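import Cfsg.Agent.Lib.NilBlk.Sections
import Cfsg.Agent.Lib.BPStar.NonVanish
import Cfsg.Agent.Lib.BrauerPairs.Deficiency
import Cfsg.Agent.Lib.Blocks12.Bounds
import Mathlib.Analysis.SpecialFunctions.Log.Basic

/-!
# The weights of a character of height zero are all `1`

The weights are totally positive algebraic integers, none of them zero, adding up to `|P|`.
-/

set_option autoImplicit false
set_option linter.unusedSectionVars false

namespace CfsgLib.NilBlk

open Cfsg MonoidAlgebra CfsgLib.Blocks CfsgLib.BrauerPairs CfsgLib.BPStar CfsgLib.Characters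
open scoped Classical ComplexConjugate

universe u

/-- Totally positive algebraic integers adding up to their number are all `1`. -/
theorem eq_one_of_sum_eq_card {ι : Type*} [Fintype ι] {N : ℕ} (hN : 0 < N)
    (b : ι → KGV.rootField N) (hint : ∀ i, IsIntegral ℤ ((b i : ℂ))) (hne : ∀ i, b i ≠ 0)
    (hpos : ∀ (σ : KGV.rootField N →ₐ[ℚ] ℂ) i, ∃ r : ℝ, 0 ≤ r ∧ σ (b i) = (r : ℂ))
    (hsum : ∑ i, (b i : ℂ) = (Fintype.card ι : ℂ)) : ∀ i, (b i : ℂ) = 1 := by
  classical
  have := KGV.finiteDimensional_rootField hN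
  let E := KGV.rootField N →ₐ[ℚ] ℂ
  choose r hr0 hr using hpos
  have hlt : ∀ (σ : E) i, 0 < r σ i := fun σ i => lt_of_le_of_ne (hr0 σ i) fun h0 => by
    have := hr σ i
    rw [← h0, Complex.ofReal_zero, map_eq_zero_iff σ σ.toRingHom.injective] at this
    exact hne i this
  have hlog : ∀ i, 0 ≤ ∑ σ : E, Real.log (r σ i) := by
    intro i
    have hnorm := Algebra.norm_eq_prod_embeddings ℚ ℂ (b i)
    have hi' : IsIntegral ℤ (b i) :=
      (isIntegral_algebraMap_iff (algebraMap (KGV.rootField N) ℂ).injective).1 (hint i)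
    obtain ⟨m, hm⟩ := IsIntegrallyClosed.isIntegral_iff.1 (Algebra.isIntegral_norm ℚ hi')
    have hm' : ((m : ℤ) : ℂ) = ((∏ σ : E, r σ i : ℝ) : ℂ) := by
      rw [Complex.ofReal_prod]
      simp only [← hr]
      rw [← hnorm, ← hm]
      simp
    have hm'' : ((m : ℤ) : ℝ) = ∏ σ : E, r σ i := by exact_mod_cast hm'
    have hp1 : (1 : ℝ) ≤ ∏ σ : E, r σ i := by
      have h0 : (0 : ℝ) < ∏ σ : E, r σ i := Finset.prod_pos fun σ _ => hlt σ i
      rw [← hm''] at h0 ⊢
      have h1 : 0 < m := by exact_mod_cast h0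
      exact_mod_cast h1
    rw [← Real.log_prod (fun σ _ => (hlt σ i).ne')]
    exact Real.log_nonneg hp1
  have hq : ∀ σ : E, ∑ i, r σ i = (Fintype.card ι : ℝ) := by
    intro σ
    have h1 : ∑ i, b i = ((Fintype.card ι : ℕ) : KGV.rootField N) := Subtype.ext (by simp [hsum])
    have h2 := congrArg σ h1
    rw [map_sum, map_natCast] at h2
    simp only [hr] at h2
    exact_mod_cast h2
  set T : ℝ := ∑ i, ∑ σ : E, (r σ i - 1 - Real.log (r σ i)) with hT
  have hterm : ∀ i (σ : E), 0 ≤ r σ i - 1 - Real.log (r σ i) := fun i σ => by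
    linarith [Real.log_le_sub_one_of_pos (hlt σ i)]
  have hT0 : T ≤ 0 := by
    have h1 : ∑ i, ∑ σ : E, (r σ i - 1) = 0 := by
      rw [Finset.sum_comm]
      refine Finset.sum_eq_zero fun σ _ => ?_
      rw [Finset.sum_sub_distrib, hq σ]
      simp
    rw [hT]
    simp only [Finset.sum_sub_distrib] at h1 ⊢
    linarith [Finset.sum_nonneg fun i (_ : i ∈ (Finset.univ : Finset ι)) => hlog i]
  intro i
  have hz : ∀ σ : E, r σ i - 1 - Real.log (r σ i) = 0 := by
    have h1 := (Finset.sum_eq_zero_iff_of_nonneg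
      fun j _ => Finset.sum_nonneg fun σ _ => hterm j σ).1
      (le_antisymm hT0 (Finset.sum_nonneg fun j _ => Finset.sum_nonneg fun σ _ => hterm j σ)) i
      (Finset.mem_univ _)
    exact fun σ => (Finset.sum_eq_zero_iff_of_nonneg fun τ _ => hterm i τ).1 h1 σ (Finset.mem_univ _)
  have hval : r (KGV.rootField N).val i = 1 := by
    by_contra h1
    linarith [Real.log_lt_sub_one_of_pos (hlt (KGV.rootField N).val i) h1,
      hz (KGV.rootField N).val]
  have h2 := hr (KGV.rootField N).val i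
  rw [hval, Complex.ofReal_one] at h2
  exact h2

variable {p : ℕ} [Fact p.Prime] {M : Ideal AlgInt} [M.IsMaximal]
variable {G : Type u} [Group G] [Fintype G]
variable {B : Set (IrrCharacter G)} {P : Subgroup G}
variable {e : Set (IrrCharacter (Subgroup.centralizer (P : Set G)))}
variable {hM : IsPModular p M}

/-- The defect of the block at `x` is bounded by the centraliser of `x` in `P`. -/
theorem pow_defect_bx_dvd (h : NilCtx hM B P e) (x : P) :
    p ^ blockDefect p (bx h x) ∣ Nat.card (Subgroup.centralizer ({x} : Set P)) := by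
  have := charP_res hM
  have hP : IsPGroup p P := h.star.hmax.1.1.1
  set Q := Subgroup.zpowers (x : G) with hQ
  set C := cz Q with hC
  have hb := isPBlock_bx h x
  obtain ⟨R', hR'⟩ := exists_defectGroup hM hb
  have hR'd := (isDefectGroup_iff hM hb R').1 hR'
  set R := R'.map C.subtype with hR
  set f := eA hM C (bx h x) with hf
  have hfi : IsBlockIdem (cz Q) f := isBlockIdem_eA hM hb
  have hQp : IsPGroup p Q := hP.to_le (Subgroup.zpowers_le.2 x.2)
  have hQC : Q ≤ C := Subgroup.zpowers_le.2 (mem_cz_self (x : G))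
  have hS : BrSetup p Q f C :=
    ⟨hQp, hfi, Subgroup.centralizer_le_normalizer _, le_rfl, hQC, hfi.fixed⟩
  have hRC : R ≤ C := Subgroup.map_subtype_le _
  have hne : brMap (ResK M) R f ≠ 0 := by
    rw [hf, ← inclA_eG, hR, ← inclA_brMap]
    exact fun h0 => hR'd.br_ne (inclA_injective _ (by rw [h0, map_zero]))
  obtain ⟨D, hD, hRD⟩ := hS.exists_defect_ge (hR'd.pgroup.map _) hRC hne
  -- a pair on `D`
  have hfD : f ∈ fixAlg (ResK M) D := fixAlg_anti hD.le_T hfi.fixed
  have hidem : brMap (ResK M) D f * brMap (ResK M) D f = brMap (ResK M) D f := by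
    rw [← brMap_mul hD.pgroup hfD hfD, hfi.idem]
  obtain ⟨d, hd, hdcov⟩ := exists_block_le (hasBlocks hM) (brMap_mem_suppAlg D f)
    (brMap_mem_fixAlg_of_block hD.le hfi) hidem hD.br_ne
  have hsub : PairLE p (Q, f) (D, d) := Relation.ReflTransGen.single
    ⟨hQp, hD.pgroup, hfi, hd, hD.le, hD.le_T.trans hS.le_norm, hfD, hdcov⟩
  have hE := isBlockIdem_eG hM h.star.isPBlockB
  have hP' := ((isBrauerPairOf_iff hM B P e).1 h.star.hmax.1).2.2
  have hcov : brMap (ResK M) D (eG hM B) * d = d :=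
    (brMap_cover_iff hsub hE.fixed hE.idem).1
      ((brMap_cover_iff (pairLE_bx h x) hE.fixed hE.idem).2 hP'.cover)
  obtain ⟨t, ht⟩ := h.star.exists_conj hD.pgroup hd hcov
  have hxle : PairLE p (conjPair (1 : G) (Q, f)) (P, eA hM (cz P) e) := by
    rw [conjPair_one]; exact pairLE_bx h x
  obtain ⟨s, hs, hse⟩ := h.inner (x : G) 1 t f hxle ((hsub.conj t).trans ht)
  rw [one_mul, inv_one, mul_one] at hse
  set CP := Subgroup.centralizer ({x} : Set P)
  have hmem : ∀ y ∈ D, s⁻¹ * t * y * (s⁻¹ * t)⁻¹ ∈ CP.map P.subtype := by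
    intro y hy
    have h1 : t * y * t⁻¹ ∈ P := ht.le ⟨y, hy, rfl⟩
    have h2 : s⁻¹ * (t * y * t⁻¹) * s ∈ P := P.mul_mem (P.mul_mem (P.inv_mem hs) h1) hs
    refine ⟨⟨_, h2⟩, ?_, ?_⟩
    · refine Subgroup.mem_centralizer_singleton_iff.2 (Subtype.ext ?_)
      have hy' := (commute_of_mem_cz (hD.le_T hy)).eq
      show s⁻¹ * (t * y * t⁻¹) * s * (x : G) = (x : G) * (s⁻¹ * (t * y * t⁻¹) * s)
      have hxx : (x : G) = s⁻¹ * (t * (x : G) * t⁻¹) * s := by rw [hse]; group
      calc s⁻¹ * (t * y * t⁻¹) * s * (x : G)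
          = s⁻¹ * (t * y * t⁻¹) * s * (s⁻¹ * (t * (x : G) * t⁻¹) * s) := by rw [← hxx]
        _ = s⁻¹ * (t * (y * (x : G)) * t⁻¹) * s := by group
        _ = s⁻¹ * (t * ((x : G) * y) * t⁻¹) * s := by rw [hy']
        _ = s⁻¹ * (t * (x : G) * t⁻¹) * s * (s⁻¹ * (t * y * t⁻¹) * s) := by group
        _ = (x : G) * (s⁻¹ * (t * y * t⁻¹) * s) := by rw [← hxx]
    · show s⁻¹ * (t * y * t⁻¹) * s = _
      group
  have hle : Nat.card D ≤ Nat.card CP := by
    rw [← Subgroup.card_map_of_injective (K := D) (f := (MulAut.conj (s⁻¹ * t)).toMonoidHom)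
      (MulAut.conj (s⁻¹ * t)).injective, ← Subgroup.card_map_of_injective (K := CP)
      P.subtype_injective]
    refine Subgroup.card_le_of_le ?_
    rintro _ ⟨y, hy, rfl⟩
    exact hmem y hy
  have h1 : p ^ blockDefect p (bx h x) ≤ Nat.card CP := by
    rw [← BlockCover.natCard_defect hM hb hR']
    refine le_trans (le_trans ?_ (Subgroup.card_le_of_le hRD)) hle
    exact (Subgroup.card_map_of_injective C.subtype_injective).ge
  obtain ⟨j, hj⟩ := IsPGroup.iff_card.1 (hP.to_subgroup CP)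
  rw [hj] at h1 ⊢
  exact pow_dvd_pow p ((Nat.pow_le_pow_iff_right (Fact.out : p.Prime).one_lt).1 h1)

/-- The multiplicities of the block part at `x`. -/
theorem blockPart_bx_mem (h : NilCtx hM B P e) (χ : IrrCharacter G) (x : P)
    (s : cz (Subgroup.zpowers (x : G))) :
    blockPart (bx h x) (secFun (x : G) (χ : G → ℂ)) s ∈ KGV.rootField (Nat.card G) := by
  rw [blockPart_eq_sum]
  exact sum_mem fun ξ _ => mul_mem (secMult_spec (x : G) χ ξ).2
    (char_mem_rootField_sub (irr_isCharacter ξ) s)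

theorem aVal_eq (h : NilCtx hM B P e) (χ : IrrCharacter G) (x : P) :
    aVal h χ x = (Nat.card (Subgroup.centralizer ({x} : Set P)) : ℂ) *
      (Nat.card (cz (Subgroup.zpowers (x : G))) : ℂ)⁻¹ *
        ∑ s ∈ regC p (x : G), blockPart (bx h x) (secFun (x : G) (χ : G → ℂ)) s *
          conj (blockPart (bx h x) (secFun (x : G) (χ : G → ℂ)) s) := by
  rw [aVal, nrm_eA (irr_isCharacter χ) (exists_pow_orderOf h x) (isPBlock_bx h x)]

theorem aVal_mem_rootField (h : NilCtx hM B P e) (χ : IrrCharacter G) (x : P) :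
    aVal h χ x ∈ KGV.rootField (Nat.card G) := by
  rw [aVal_eq]
  exact mul_mem (mul_mem (natCast_mem _ _) (inv_mem (natCast_mem _ _))) (sum_mem fun s _ =>
    mul_mem (blockPart_bx_mem h χ x s) (KGV.conj_mem_rootField (blockPart_bx_mem h χ x s)))

theorem aVal_pos (h : NilCtx hM B P e) (χ : IrrCharacter G) (x : P)
    (σ : KGV.rootField (Nat.card G) →ₐ[ℚ] ℂ) :
    ∃ r : ℝ, 0 ≤ r ∧ σ ⟨aVal h χ x, aVal_mem_rootField h χ x⟩ = (r : ℂ) := by
  set C := cz (Subgroup.zpowers (x : G))
  set z : C → KGV.rootField (Nat.card G) := fun s =>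
    ⟨blockPart (bx h x) (secFun (x : G) (χ : G → ℂ)) s, blockPart_bx_mem h χ x s⟩
  set z' : C → KGV.rootField (Nat.card G) := fun s =>
    ⟨conj ((z s : KGV.rootField (Nat.card G)) : ℂ), KGV.conj_mem_rootField (z s).2⟩
  refine ⟨(Nat.card (Subgroup.centralizer ({x} : Set P)) : ℝ) * (Nat.card C : ℝ)⁻¹ *
    ∑ s ∈ regC p (x : G), Complex.normSq (σ (z s)), mul_nonneg (mul_nonneg (Nat.cast_nonneg _)
      (inv_nonneg.2 (Nat.cast_nonneg _))) (Finset.sum_nonneg fun s _ => Complex.normSq_nonneg _), ?_⟩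
  have he : (⟨aVal h χ x, aVal_mem_rootField h χ x⟩ : KGV.rootField (Nat.card G)) =
      (Nat.card (Subgroup.centralizer ({x} : Set P)) : KGV.rootField (Nat.card G)) *
        (Nat.card C : KGV.rootField (Nat.card G))⁻¹ * ∑ s ∈ regC p (x : G), z s * z' s :=
    Subtype.ext ((aVal_eq h χ x).trans (by simp [z, z', C]))
  rw [he, map_mul, map_mul, map_inv₀, map_natCast, map_natCast, map_sum]
  push_cast
  refine congrArg _ (Finset.sum_congr rfl fun s _ => ?_)
  rw [map_mul, ← Complex.mul_conj]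
  congr 1
  exact KGV.map_conj_rootField Nat.card_pos σ (z s).2

theorem isIntegral_aVal (h : NilCtx hM B P e) (χ : IrrCharacter G) (x : P) :
    IsIntegral ℤ (aVal h χ x) := by
  haveI : Fintype (ConjClasses (cz (Subgroup.zpowers (x : G)))) := Fintype.ofFinite _
  set C := cz (Subgroup.zpowers (x : G))
  set b := bx h x
  have hb : IsPBlock M b := isPBlock_bx h x
  obtain ⟨m, hm⟩ := pow_defect_bx_dvd h x
  set c : IrrCharacter C → ℂ := secMult (x : G) (χ : G → ℂ)
  set S : Finset (IrrCharacter C) := Finset.univ.filter (· ∈ b)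
  have e1 : aVal h χ x = (m : ℂ) * ∑ ξ ∈ S, ∑ η ∈ S,
      c ξ * conj (c η) * (Contribution.contribInt p b ξ η : ℂ) := by
    rw [aVal_eq, hm, Nat.cast_mul, Nat.cast_pow]
    have e2 : ∑ s ∈ regC p (x : G), blockPart b (secFun (x : G) (χ : G → ℂ)) s *
        conj (blockPart b (secFun (x : G) (χ : G → ℂ)) s) =
        ∑ ξ ∈ S, ∑ η ∈ S, c ξ * conj (c η) *
          Contribution.regSum p (ξ : C → ℂ) (η : C → ℂ) := by
      simp only [blockPart_eq_sum, map_sum, map_mul, Finset.sum_mul_sum]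
      rw [Finset.sum_comm]
      refine Finset.sum_congr rfl fun ξ _ => ?_
      rw [Finset.sum_comm]
      refine Finset.sum_congr rfl fun η _ => ?_
      rw [Contribution.regSum, Finset.mul_sum]
      refine Finset.sum_congr (by ext; simp [regC]) fun s _ => ?_
      simp only [c, secMult]
      ring
    rw [e2, Finset.mul_sum, Finset.mul_sum]
    refine Finset.sum_congr rfl fun ξ _ => ?_
    rw [Finset.mul_sum, Finset.mul_sum]
    refine Finset.sum_congr rfl fun η hη => ?_
    rw [Contribution.contribInt_cast hM hb ξ (Finset.mem_filter.1 hη).2, Contribution.contrib]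
    ring
  rw [e1]
  exact (isIntegral_algebraMap (R := ℤ) (x := (m : ℤ))).mul (IsIntegral.sum _ fun ξ _ =>
    IsIntegral.sum _ fun η _ => ((secMult_spec (x : G) χ ξ).1.mul
      ((secMult_spec (x : G) χ η).1.map ((starRingEnd ℂ).toIntAlgHom))).mul
        (isIntegral_algebraMap (R := ℤ) (x := Contribution.contribInt p b ξ η)))

theorem aVal_ne_zero (h : NilCtx hM B P e) {χ : IrrCharacter G} (hχ : χ ∈ B)
    (h0 : blockHeight p B (χ : G → ℂ) = 0) (x : P) : aVal h χ x ≠ 0 := by
  obtain ⟨s, hs, hne⟩ := exists_blockPart_ne_zero hM h.star.hmax hχ h0 x (isPBlock_bx h x)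
    (pairLE_bx h x)
  rw [aVal_eq]
  refine mul_ne_zero (mul_ne_zero (Nat.cast_ne_zero.2 Nat.card_pos.ne')
    (inv_ne_zero (Nat.cast_ne_zero.2 Nat.card_pos.ne'))) ?_
  simp only [Complex.mul_conj, ← Complex.ofReal_sum, Ne, Complex.ofReal_eq_zero]
  intro hz
  exact hne (Complex.normSq_eq_zero.1 ((Finset.sum_eq_zero_iff_of_nonneg
    fun t _ => Complex.normSq_nonneg _).1 hz s (mem_regC.2 hs)))

/-- The weights of a character of height zero. -/
theorem aVal_eq_one (h : NilCtx hM B P e) {χ : IrrCharacter G} (hχ : χ ∈ B)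
    (h0 : blockHeight p B (χ : G → ℂ) = 0) (x : P) : aVal h χ x = 1 := by
  have hP : (Nat.card P : ℂ) ≠ 0 := Nat.cast_ne_zero.2 Nat.card_pos.ne'
  have hsum : ∑ x : P, aVal h χ x = (Fintype.card P : ℂ) := by
    have h1 := classInner_starC h (f := fun _ : P => (1 : ℂ)) (f' := fun _ : P => (1 : ℂ))
      (fun _ _ => rfl) (fun _ _ => rfl) hχ
    rw [starC_const_one h hχ, classInner_irr_self χ.2] at h1
    simp only [one_mul, map_one] at h1
    rw [← Nat.card_eq_fintype_card]
    have h2 := congrArg (fun z => (Nat.card P : ℂ) * z) h1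
    simp only [mul_one, ← mul_assoc, mul_inv_cancel₀ hP, one_mul] at h2
    exact h2.symm
  exact eq_one_of_sum_eq_card (Nat.card_pos (α := G))
    (fun x : P => (⟨aVal h χ x, aVal_mem_rootField h χ x⟩ : KGV.rootField (Nat.card G)))
    (fun y => isIntegral_aVal h χ y)
    (fun y hy => aVal_ne_zero h hχ h0 y (congrArg Subtype.val hy))
    (fun σ y => aVal_pos h χ y σ) hsum x

end CfsgLib.NilBlk
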