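import Cfsg.Agent.Lib.NilBlk.Integrality
import Cfsg.Agent.Lib.NilBlk.Norm
import Cfsg.Agent.Lib.Blocks.RankOrth

/-!
# The characters of a nilpotent block

They are the products of one character of height zero by the irreducible characters of the defect
group; they restrict to the regular elements as multiples of that character.
-/

set_option autoImplicit false
set_option linter.unusedSectionVars false

namespace CfsgLib.NilBlk

open Cfsg MonoidAlgebra CfsgLib.Blocks CfsgLib.BrauerPairs CfsgLib.BPStar CfsgLib.Characters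
open scoped Classical ComplexConjugate

universe u

variable {p : ℕ} [Fact p.Prime] {M : Ideal AlgInt} [M.IsMaximal]
variable {G : Type u} [Group G] [Fintype G]
variable {B : Set (IrrCharacter G)} {P : Subgroup G}
variable {e : Set (IrrCharacter (Subgroup.centralizer (P : Set G)))}
variable {hM : IsPModular p M}

/-- Products by irreducible characters are orthonormal. -/
theorem classInner_starC_irr (h : NilCtx hM B P e) {χ : IrrCharacter G} (hχ : χ ∈ B)
    (h0 : blockHeight p B (χ : G → ℂ) = 0) (lam mu : IrrCharacter P) :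
    classInner (starC hM B P e (lam : P → ℂ) (χ : G → ℂ))
      (starC hM B P e (mu : P → ℂ) (χ : G → ℂ)) = classInner (lam : P → ℂ) (mu : P → ℂ) := by
  rw [classInner_starC h (irr_isClassFunction lam) (irr_isClassFunction mu) hχ, classInner]
  congr 1
  exact Finset.sum_congr rfl fun x _ => by rw [aVal_eq_one h hχ h0, mul_one]

/-- The product by an irreducible character is an irreducible character of the block. -/
theorem exists_starIrr (h : NilCtx hM B P e) {χ : IrrCharacter G} (hχ : χ ∈ B)
    (h0 : blockHeight p B (χ : G → ℂ) = 0) (lam : IrrCharacter P) :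
    ∃ ψ : IrrCharacter G, ψ ∈ B ∧
      (ψ : G → ℂ) = starC hM B P e (lam : P → ℂ) (χ : G → ℂ) := by
  have hlc : IsClassFunction P (lam : P → ℂ) := irr_isClassFunction lam
  have hlch : IsCharacter P (lam : P → ℂ) := irr_isCharacter lam
  set θ := starC hM B P e (lam : P → ℂ) (χ : G → ℂ) with hθ
  set c : IrrCharacter G → ℂ := fun ψ => classInner θ (ψ : G → ℂ) with hc
  have hexp : θ = ∑ ψ : IrrCharacter G, c ψ • (ψ : G → ℂ) :=
    classFunction_eq_sum (isClassFunction_starC h hlc)
  have hnorm : classInner θ θ = 1 := by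
    rw [hθ, classInner_starC_irr h hχ h0, classInner_irr_self lam.2]
  have hsum : ∑ ψ : IrrCharacter G, c ψ * conj (c ψ) = ((1 : ℚ) : ℂ) := by
    rw [Rat.cast_one, ← hnorm]
    conv_rhs => rw [hexp]
    rw [classInner_sum_left]
    refine Finset.sum_congr rfl fun ψ _ => ?_
    rw [classInner_smul_left]
    congr 1
    rw [← hexp, classInner_conj_symm]
  have hle := KGV.card_ne_zero_le_sum_normSq Finset.univ (N := Nat.card G) Nat.card_pos c
    (fun ψ _ => classInner_starC_mem_rootField hM h hlch hχ ψ)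
    (fun ψ _ => isIntegral_classInner_starC hM h hlch hχ ψ) 1 hsum
  set S := Finset.univ.filter fun ψ => c ψ ≠ 0 with hS
  have hcard : S.card ≤ 1 := by exact_mod_cast hle
  obtain ⟨ψ, hψ⟩ : S.Nonempty := by
    rw [Finset.nonempty_iff_ne_empty]
    intro hemp
    rw [Finset.filter_eq_empty_iff] at hemp
    rw [Rat.cast_one] at hsum
    exact one_ne_zero (hsum.symm.trans (Finset.sum_eq_zero fun ψ _ => by
      rw [not_not.1 (hemp (Finset.mem_univ ψ)), zero_mul]))
  have honly : ∀ η : IrrCharacter G, η ≠ ψ → c η = 0 := fun η hη => by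
    by_contra hne
    exact hη (Finset.card_le_one.1 hcard η (Finset.mem_filter.2 ⟨Finset.mem_univ η, hne⟩) ψ hψ)
  have hθψ : θ = c ψ • (ψ : G → ℂ) := by
    rw [hexp]
    exact Finset.sum_eq_single ψ (fun η _ hη => by rw [honly η hη, zero_smul])
      fun hemp => absurd (Finset.mem_univ ψ) hemp
  have hcc : c ψ * conj (c ψ) = 1 := by
    rw [Rat.cast_one] at hsum
    rw [← hsum]
    exact (Finset.sum_eq_single (f := fun η => c η * conj (c η)) ψ
      (fun η _ hη => by simp only [honly η hη, zero_mul])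
      fun hemp => absurd (Finset.mem_univ ψ) hemp).symm
  have hl1 : (lam : P → ℂ) 1 = (charDegree (lam : P → ℂ) : ℂ) :=
    CharCorr.irr_one_eq_charDegree lam
  have hl0 : (charDegree (lam : P → ℂ) : ℂ) ≠ 0 := hl1 ▸ irr_one_ne_zero lam
  have hc1 : c ψ = 1 := by
    have h1 := congrFun hθψ 1
    rw [Pi.smul_apply, smul_eq_mul, hθ, starC_one h hlc hχ, hl1, CharCorr.irr_one_eq_charDegree,
      CharCorr.irr_one_eq_charDegree, ← Nat.cast_mul] at h1
    have hb : (charDegree (ψ : G → ℂ) : ℂ) ≠ 0 := by
      rw [← CharCorr.irr_one_eq_charDegree]; exact irr_one_ne_zero ψ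
    have h2 : c ψ = ((charDegree (lam : P → ℂ) * charDegree (χ : G → ℂ) : ℕ) : ℂ) /
        (charDegree (ψ : G → ℂ) : ℂ) := by
      rw [eq_div_iff hb, ← h1]
    rw [h2, map_div₀, Complex.conj_natCast, Complex.conj_natCast, div_mul_div_comm,
      div_eq_one_iff_eq (mul_ne_zero hb hb)] at hcc
    have h3 : charDegree (lam : P → ℂ) * charDegree (χ : G → ℂ) = charDegree (ψ : G → ℂ) :=
      Nat.mul_self_inj.1 (by exact_mod_cast hcc)
    rw [h2, h3, div_self hb]
  rw [hc1, one_smul] at hθψ
  refine ⟨ψ, ?_, hθψ.symm⟩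
  by_contra hψB
  have hz := sum_regular_eq_zero_of_not_sameBlock hM (χ := χ) (ψ := ψ) fun hs => hψB (by
    rw [IsPBlock.eq_blockOf hM h.star.isPBlockB hχ]; exact hs)
  set reg := Finset.univ.filter (fun x : G => ¬ p ∣ orderOf x)
  have h1 : ∀ x ∈ reg, (ψ : G → ℂ) x = (charDegree (lam : P → ℂ) : ℂ) * (χ : G → ℂ) x :=
    fun x hx => by
      rw [← hθψ, hθ, starC_regular h hlc hχ (Finset.mem_filter.1 hx).2, hl1]
  have h2 : (charDegree (lam : P → ℂ) : ℂ) *
      ((∑ x ∈ reg, Complex.normSq ((χ : G → ℂ) x) : ℝ) : ℂ) = 0 := by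
    rw [Complex.ofReal_sum, Finset.mul_sum, ← hz]
    exact Finset.sum_congr rfl fun x hx => by
      rw [h1 x hx, ← Complex.mul_conj, map_mul, Complex.conj_natCast]; ring
  have h3 := (Finset.sum_eq_zero_iff_of_nonneg fun x _ => Complex.normSq_nonneg _).1
    (Complex.ofReal_eq_zero.1 ((mul_eq_zero.1 h2).resolve_left hl0)) 1
    (Finset.mem_filter.2 ⟨Finset.mem_univ _, by rw [orderOf_one]; exact hM.1.not_dvd_one⟩)
  exact irr_one_ne_zero χ (Complex.normSq_eq_zero.1 h3)

/-- The sum of the squares of the degrees as a function on `P`. -/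
theorem sum_deg_irr (x : P) :
    ∑ lam : IrrCharacter P, (charDegree (lam : P → ℂ) : ℂ) * (lam : P → ℂ) x =
      if x = 1 then (Nat.card P : ℂ) else 0 := by
  have h1 := column_orth (G := P) x 1
  rw [show (if x = 1 then (Nat.card P : ℂ) else 0) =
    if IsConj x 1 then (Nat.card (Subgroup.centralizer ({x} : Set P)) : ℂ) else 0 from ?_, ← h1]
  · refine Finset.sum_congr rfl fun lam _ => ?_
    rw [CharCorr.irr_one_eq_charDegree lam, Complex.conj_natCast, mul_comm]
  · by_cases hx : x = 1
    · subst hx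
      rw [if_pos rfl, if_pos (IsConj.refl _), show Subgroup.centralizer ({1} : Set P) = ⊤ from
        eq_top_iff.2 fun g _ => Subgroup.mem_centralizer_singleton_iff.2 (by simp),
        Subgroup.card_top]
    · rw [if_neg hx, if_neg fun hc : IsConj x 1 => hx (isConj_one_left.1 hc)]

/-- Every character of the block is a product. -/
theorem exists_eq_starC (h : NilCtx hM B P e) {χ : IrrCharacter G} (hχ : χ ∈ B)
    (h0 : blockHeight p B (χ : G → ℂ) = 0) {ψ : IrrCharacter G} (hψ : ψ ∈ B) :
    ∃ lam : IrrCharacter P, (ψ : G → ℂ) = starC hM B P e (lam : P → ℂ) (χ : G → ℂ) := by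
  have : Fintype (ConjClasses G) := Fintype.ofFinite _
  by_contra hcon
  simp only [not_exists] at hcon
  set ρ : P → ℂ := fun x => ∑ lam : IrrCharacter P,
    (charDegree (lam : P → ℂ) : ℂ) * (lam : P → ℂ) x with hρ
  have hρc : IsClassFunction P ρ := fun a b =>
    Finset.sum_congr rfl fun lam _ => by rw [irr_isClassFunction lam a b]
  have hoff : ∀ x : P, x ≠ 1 → ρ x = 0 := fun x hx => by
    rw [hρ]; simp only [sum_deg_irr, if_neg hx]
  have hρ1 : ρ 1 = (Nat.card P : ℂ) := by
    rw [hρ]; simp only [sum_deg_irr, if_true]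
  set Θ : G → ℂ := starC hM B P e ρ (χ : G → ℂ) with hΘ
  have hz : classInner Θ (ψ : G → ℂ) = 0 := by
    have e1 : Θ = ∑ lam : IrrCharacter P, (charDegree (lam : P → ℂ) : ℂ) •
        starC hM B P e (lam : P → ℂ) (χ : G → ℂ) := by
      funext g
      rw [Finset.sum_apply, hΘ, hρ, starC_linear h Finset.univ
        (fun lam : IrrCharacter P => (charDegree (lam : P → ℂ) : ℂ))
        (fun lam : IrrCharacter P => (lam : P → ℂ)) (fun lam => irr_isClassFunction lam) hχ g]
      exact Finset.sum_congr rfl fun lam _ => rfl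
    rw [e1, classInner_sum_left]
    refine Finset.sum_eq_zero fun lam _ => ?_
    obtain ⟨η, -, hη⟩ := exists_starIrr h hχ h0 lam
    have hne : η ≠ ψ := fun he => hcon lam (he ▸ hη)
    rw [classInner_smul_left, ← hη,
      classInner_irr_ne η.2 ψ.2 (fun he => hne (Subtype.ext he)), mul_zero]
  have hreg : classInner Θ (ψ : G → ℂ) = (Nat.card P : ℂ) * ((Nat.card G : ℂ)⁻¹ *
      Contribution.regSum p (χ : G → ℂ) (ψ : G → ℂ)) := by
    rw [classInner, Contribution.regSum, Finset.sum_filter, Finset.mul_sum, Finset.mul_sum,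
      Finset.mul_sum]
    refine Finset.sum_congr rfl fun g _ => ?_
    by_cases hg : p ∣ orderOf g
    · rw [if_neg (not_not.2 hg), hΘ, starC_eq_zero_of_singular h hρc hoff hχ hg]
      ring
    · rw [if_pos hg, hΘ, starC_regular h hρc hχ hg, hρ1]
      ring
  rw [hreg] at hz
  have hne := Contribution.contrib_zero_ne hM h.star.isPBlockB hχ
    (SubsectionSq.not_dvd_red hM hχ h0) hψ
  refine hne ?_
  rw [Contribution.contrib, mul_assoc,
    (mul_eq_zero.1 hz).resolve_left (Nat.cast_ne_zero.2 Nat.card_pos.ne'), mul_zero]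

/-- The bijection with the characters of the defect group. -/
theorem exists_equiv (h : NilCtx hM B P e) :
    ∃ χ₀ ∈ B, ∃ Φ : IrrCharacter P ≃ B, ∀ lam : IrrCharacter P,
      blockHeight p B ((Φ lam : IrrCharacter G) : G → ℂ) =
          (charDegree (lam : P → ℂ)).factorization p ∧
        ∀ g : G, pRegularPart p ((Φ lam : IrrCharacter G) : G → ℂ) g =
          (charDegree (lam : P → ℂ) : ℂ) * pRegularPart p (χ₀ : G → ℂ) g := by
  obtain ⟨χ, hχ, -, hmin⟩ := Contribution.exists_height_zero hM h.star.isPBlockB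
  have h0 : blockHeight p B (χ : G → ℂ) = 0 := by
    rw [blockHeight, hmin]; exact Nat.sub_self _
  choose F hFB hF using fun lam : IrrCharacter P => exists_starIrr h hχ h0 lam
  have hinj : Function.Injective (fun lam : IrrCharacter P => (⟨F lam, hFB lam⟩ : B)) := by
    intro a b hab
    by_contra hne
    have h1 := classInner_starC_irr h hχ h0 a b
    have h2 : F a = F b := congrArg Subtype.val hab
    rw [← hF a, ← hF b, h2, classInner_irr_self (F b).2,
      classInner_irr_ne a.2 b.2 (fun he => hne (Subtype.ext he))] at h1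
    exact one_ne_zero h1
  have hsurj : Function.Surjective (fun lam : IrrCharacter P => (⟨F lam, hFB lam⟩ : B)) := by
    rintro ⟨ψ, hψ⟩
    obtain ⟨lam, hlam⟩ := exists_eq_starC h hχ h0 hψ
    exact ⟨lam, Subtype.ext (Subtype.ext ((hF lam).trans hlam.symm))⟩
  refine ⟨χ, hχ, Equiv.ofBijective _ ⟨hinj, hsurj⟩, fun lam => ⟨?_, fun g => ?_⟩⟩
  · have hdeg : charDegree (F lam : G → ℂ) =
        charDegree (lam : P → ℂ) * charDegree (χ : G → ℂ) := by
      have h1 := congrFun (hF lam) 1
      rw [starC_one h (irr_isClassFunction lam) hχ, CharCorr.irr_one_eq_charDegree,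
        CharCorr.irr_one_eq_charDegree, CharCorr.irr_one_eq_charDegree, ← Nat.cast_mul,
        Nat.cast_inj] at h1
      exact h1
    show blockHeight p B (F lam : G → ℂ) = _
    rw [blockHeight, hdeg, Nat.factorization_mul (CfsgLib.ClassCount.degree_eq lam).2.2.ne'
      (CfsgLib.ClassCount.degree_eq χ).2.2.ne', Finsupp.add_apply, hmin]
    exact Nat.add_sub_cancel _ _
  · show pRegularPart p (F lam : G → ℂ) g = _
    rw [pRegularPart, pRegularPart]
    by_cases hg : IsPRegular p g
    · simp only [if_pos hg]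
      rw [hF lam, starC_regular h (irr_isClassFunction lam) hχ hg,
        CharCorr.irr_one_eq_charDegree lam]
    · simp only [if_neg hg, mul_zero]

/-- A defect group carries a maximal pair. -/
theorem exists_maximalPair (hM : IsPModular p M) (hB : IsPBlock M B)
    (hD : IsDefectGroup p M B P) :
    ∃ e : Set (IrrCharacter (Subgroup.centralizer (P : Set G))),
      IsMaximalBrauerPair p M B P e := by
  have := charP_res hM
  have hd := (isDefectGroup_iff hM hB P).1 hD
  have hE := isBlockIdem_eG hM hB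
  obtain ⟨b, hb, hcov⟩ := exists_block_le (hasBlocks hM) (brMap_mem_suppAlg P (eG hM B))
    (brMap_mem_fixAlg (cz_le_normalizer P) (fixAlg_anti le_top hE.fixed))
    (by rw [← brMap_mul hd.pgroup (fixAlg_anti le_top hE.fixed) (fixAlg_anti le_top hE.fixed),
      hE.idem]) hd.br_ne
  obtain ⟨e, he, rfl⟩ := exists_eA_eq hM hb
  exact ⟨e, (isMaximalBrauerPair_iff hM B P e).2 ⟨(isBrauerPairOf_iff hM B P e).2
    ⟨he, hB, hd.pgroup, bot_le, le_top, hb, hcov⟩, hd⟩⟩

end CfsgLib.NilBlk
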