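import Cfsg.Agent.Lib.NilBlk.Star
import Cfsg.Agent.Lib.BPStar.Star
import Cfsg.Agent.Lib.Blocks.CentralChar

/-!
# Inner products of products: sums over the sections become sums over the defect group
-/

set_option autoImplicit false
set_option linter.unusedSectionVars false

namespace CfsgLib.NilBlk

open Cfsg MonoidAlgebra CfsgLib.Blocks CfsgLib.BrauerPairs CfsgLib.BPStar CfsgLib.Characters
open scoped Classical ComplexConjugate

universe u

variable {p : ℕ} [Fact p.Prime] {M : Ideal AlgInt} [M.IsMaximal]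
variable {G : Type u} [Group G] [Fintype G]
variable {B : Set (IrrCharacter G)} {P : Subgroup G}
variable {e : Set (IrrCharacter (Subgroup.centralizer (P : Set G)))}

/-- The `p`-elements. -/
noncomputable def pEls (p : ℕ) (G : Type u) [Group G] [Fintype G] : Finset G :=
  Finset.univ.filter fun u => ∃ k : ℕ, orderOf u = p ^ k

/-- The regular elements of the centraliser of `u`. -/
noncomputable def regC (p : ℕ) (u : G) : Finset (cz (Subgroup.zpowers u)) :=
  Finset.univ.filter fun s => ¬ p ∣ orderOf s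

theorem mem_regC {u : G} {s : cz (Subgroup.zpowers u)} : s ∈ regC p u ↔ ¬ p ∣ orderOf s := by
  simp [regC]

theorem mem_pEls {u : G} : u ∈ pEls p G ↔ ∃ k : ℕ, orderOf u = p ^ k := by simp [pEls]

/-- Sums over the group are sums over the sections. -/
theorem sum_sections (hp : p.Prime) (F : G → ℂ) :
    ∑ g, F g = ∑ u ∈ pEls p G, ∑ s ∈ regC p u, F (u * (s : G)) := by
  let π : G → G := fun g => (exists_isPPart hp g).choose
  rw [← Finset.sum_fiberwise_of_maps_to (s := Finset.univ) (t := pEls p G) (g := π) fun g _ =>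
    mem_pEls.2 (by
      obtain ⟨-, -, -, hk, -⟩ := (exists_isPPart hp g).choose_spec
      exact hk)]
  refine Finset.sum_congr rfl fun u hu => ?_
  symm
  refine Finset.sum_bij (fun s _ => u * (s : G)) (fun s hs => ?_) (fun a _ b _ hab =>
    Subtype.ext (mul_left_cancel hab)) (fun g hg => ?_) fun s _ => rfl
  · rw [Finset.mem_filter]
    exact ⟨Finset.mem_univ _, IsPPart.unique hp (exists_isPPart hp _).choose_spec
      (isPPart_mul (commute_of_mem_cz s.2) (mem_pEls.1 hu)
        (by rw [Subgroup.orderOf_coe]; exact mem_regC.1 hs))⟩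
  · have hg' : π g = u := (Finset.mem_filter.1 hg).2
    obtain ⟨w, s, hw, hs, rfl⟩ := exists_sec_decomp hp g
    have : w = u := by
      rw [← hg']
      exact (IsPPart.unique hp (exists_isPPart hp _).choose_spec
        (isPPart_mul (commute_of_mem_cz s.2) hw (by rwa [Subgroup.orderOf_coe]))).symm
    subst this
    exact ⟨s, mem_regC.2 hs, rfl⟩

/-- The norm of the part of `χ` at the pair `(u, b)`. -/
noncomputable def nrm (hM : IsPModular p M) (χ : G → ℂ) (u : G)
    (b : MonoidAlgebra (ResK M) G) : ℂ :=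
  ∑ s ∈ regC p u, liftVal hM χ (u * (s : G)) b * conj (liftVal hM χ (u * (s : G)) b)

variable {hM : IsPModular p M}

theorem nrm_eA {χ : G → ℂ} (hχ : IsCharacter G χ) {u : G} (hu : ∃ k : ℕ, orderOf u = p ^ k)
    {b : Set (IrrCharacter (cz (Subgroup.zpowers u)))} (hb : IsPBlock M b) :
    nrm hM χ u (eA hM (cz (Subgroup.zpowers u)) b) =
      ∑ s ∈ regC p u, blockPart b (secFun u χ) s * conj (blockPart b (secFun u χ) s) :=
  Finset.sum_congr rfl fun s hs => by rw [liftVal_eA hM hχ hu (mem_regC.1 hs) hb]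

theorem nrm_conj {χ : G → ℂ} (hχ : IsCharacter G χ) {u : G} (hu : ∃ k : ℕ, orderOf u = p ^ k)
    {b : MonoidAlgebra (ResK M) G} (hb : IsBlockIdem (cz (Subgroup.zpowers u)) b) (t : G) :
    nrm hM χ (t * u * t⁻¹) (conjA t b) = nrm hM χ u b := by
  have hmem : ∀ (r w s : G), s ∈ cz (Subgroup.zpowers w) →
      r * s * r⁻¹ ∈ cz (Subgroup.zpowers (r * w * r⁻¹)) := fun r w s hs => by
    rw [← map_conj_zpowers, cz_map_conj]
    exact ⟨s, hs, rfl⟩
  symm
  refine Finset.sum_bij (fun s _ => ⟨t * (s : G) * t⁻¹, hmem t u s s.2⟩) (fun s hs => ?_)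
    (fun a _ c _ hac => ?_) (fun s hs => ?_) fun s hs => ?_
  · rw [mem_regC, ← Subgroup.orderOf_coe, orderOf_conj', Subgroup.orderOf_coe]
    exact mem_regC.1 hs
  · exact Subtype.ext (mul_left_cancel (mul_right_cancel (congrArg Subtype.val hac)))
  · have h1 := hmem t⁻¹ _ s s.2
    rw [show t⁻¹ * (t * u * t⁻¹) * t⁻¹⁻¹ = u by group] at h1
    refine ⟨⟨_, h1⟩, ?_, Subtype.ext (by simp [mul_assoc])⟩
    rw [mem_regC, ← Subgroup.orderOf_coe, orderOf_conj', Subgroup.orderOf_coe]
    exact mem_regC.1 hs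
  · have hus : u * (s : G) ∈ cz (Subgroup.zpowers u) := mul_mem (mem_cz_self u) s.2
    show _ = liftVal hM χ (t * u * t⁻¹ * (t * (s : G) * t⁻¹)) (conjA t b) * _
    rw [show t * u * t⁻¹ * (t * (s : G) * t⁻¹) = t * (u * (s : G)) * t⁻¹ by group,
      liftVal_conj hM hχ (isPPart_sec hu (mem_regC.1 hs)) hb.idem
        (commute_single_of_conjA (hb.fixed _ hus)) t]

/-- The inner product of two products, pair by pair. -/
theorem sum_starC_mul (h : NilCtx hM B P e) (f f' : P → ℂ) {χ : IrrCharacter G} (hχ : χ ∈ B) :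
    ∑ g, starC hM B P e f (χ : G → ℂ) g * conj (starC hM B P e f' (χ : G → ℂ) g) =
      ∑ u ∈ pEls p G, ∑ b ∈ blocksAt hM u,
        wC hM P e f u b * conj (wC hM P e f' u b) * nrm hM (χ : G → ℂ) u b := by
  rw [sum_sections hM.1]
  refine Finset.sum_congr rfl fun u hu => ?_
  have hu' := mem_pEls.1 hu
  set C := cz (Subgroup.zpowers u)
  set bp : Set (IrrCharacter C) → C → ℂ := fun b => blockPart b (secFun u (χ : G → ℂ))
  rw [sum_blocksAt_eq hM u]
  calc ∑ s ∈ regC p u, starC hM B P e f (χ : G → ℂ) (u * (s : G)) *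
        conj (starC hM B P e f' (χ : G → ℂ) (u * (s : G)))
      = ∑ s ∈ regC p u, ∑ b ∈ blockSets M C, ∑ b' ∈ blockSets M C,
          wC hM P e f u (eA hM C b) * conj (wC hM P e f' u (eA hM C b')) *
            (bp b s * conj (bp b' s)) := by
        refine Finset.sum_congr rfl fun s hs => ?_
        rw [starC_sec h.star.isPBlockB hχ hu' (mem_regC.1 hs),
          starC_sec h.star.isPBlockB hχ hu' (mem_regC.1 hs), map_sum, Finset.sum_mul_sum]
        exact Finset.sum_congr rfl fun b _ => Finset.sum_congr rfl fun b' _ => by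
          rw [map_mul]; simp only [bp]; ring
    _ = ∑ b ∈ blockSets M C, ∑ b' ∈ blockSets M C,
          wC hM P e f u (eA hM C b) * conj (wC hM P e f' u (eA hM C b')) *
            ∑ s ∈ regC p u, bp b s * conj (bp b' s) := by
        rw [Finset.sum_comm]
        refine Finset.sum_congr rfl fun b _ => ?_
        rw [Finset.sum_comm]
        exact Finset.sum_congr rfl fun b' _ => (Finset.mul_sum _ _ _).symm
    _ = _ := by
        refine Finset.sum_congr rfl fun b hb => ?_
        rw [Finset.sum_eq_single b]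
        · rw [nrm_eA (irr_isCharacter χ) hu' (mem_blockSets.1 hb)]
        · intro b' hb' hne
          have h0 := sum_regular_blockPart hM (mem_blockSets.1 hb) (mem_blockSets.1 hb') hne.symm
            (secFun u (χ : G → ℂ))
          rw [show ∑ s ∈ regC p u, bp b s * conj (bp b' s) = 0 from h0, mul_zero]
        · exact fun h0 => absurd hb h0

section Pairs

variable (h : NilCtx hM B P e)
include h

theorem exists_bx (x : P) : ∃ b : Set (IrrCharacter (cz (Subgroup.zpowers (x : G)))),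
    IsPBlock M b ∧ PairLE p (Subgroup.zpowers (x : G),
      eA hM (cz (Subgroup.zpowers (x : G))) b) (P, eA hM (cz P) e) := by
  have := charP_res hM
  obtain ⟨b', hb', hle⟩ := exists_pairLE (hasBlocks hM) (Subgroup.zpowers_le.2 x.2)
    h.star.hmax.1.1.1 h.star.block
  obtain ⟨b, hb, rfl⟩ := exists_eA_eq hM hb'
  exact ⟨b, hb, hle⟩

/-- The block at `x` below the maximal pair. -/
noncomputable def bx (x : P) : Set (IrrCharacter (cz (Subgroup.zpowers (x : G)))) :=
  (exists_bx h x).choose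

theorem isPBlock_bx (x : P) : IsPBlock M (bx h x) := (exists_bx h x).choose_spec.1

theorem pairLE_bx (x : P) : PairLE p (Subgroup.zpowers (x : G),
    eA hM (cz (Subgroup.zpowers (x : G))) (bx h x)) (P, eA hM (cz P) e) :=
  (exists_bx h x).choose_spec.2

theorem wC_bx {f : P → ℂ} (hf : IsClassFunction P f) (x : P) :
    wC hM P e f (x : G) (eA hM (cz (Subgroup.zpowers (x : G))) (bx h x)) = f x := by
  have hle : PairLE p (conjPair (1 : G) (Subgroup.zpowers (x : G),
      eA hM (cz (Subgroup.zpowers (x : G))) (bx h x))) (P, eA hM (cz P) e) := by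
    rw [conjPair_one]; exact pairLE_bx h x
  rw [wC_eq h hf hle]
  congr 1
  ext
  simp

theorem exists_pow_orderOf (x : P) : ∃ k : ℕ, orderOf (x : G) = p ^ k := by
  rw [Subgroup.orderOf_coe]
  exact IsPGroup.iff_orderOf.1 h.star.hmax.1.1.1 x

/-- The conjugators carrying the pair at `x` to a given pair. -/
theorem card_fibre {u g₀ : G} {b : MonoidAlgebra (ResK M) G}
    (hg₀ : PairLE p (conjPair g₀ (Subgroup.zpowers u, b)) (P, eA hM (cz P) e)) (x : P) :
    (Finset.univ.filter fun g : G => g * (x : G) * g⁻¹ = u ∧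
        conjA g (eA hM (cz (Subgroup.zpowers (x : G))) (bx h x)) = b).card =
      if IsConj (⟨g₀ * u * g₀⁻¹, mem_of_pairLE hg₀⟩ : P) x then
        Nat.card (cz (Subgroup.zpowers (x : G))) else 0 := by
  have := charP_res hM
  have hP : IsPGroup p P := h.star.hmax.1.1.1
  set a := eA hM (cz (Subgroup.zpowers (x : G))) (bx h x) with ha
  have hab : IsBlockIdem (cz (Subgroup.zpowers (x : G))) a :=
    isBlockIdem_eA hM (isPBlock_bx h x)
  by_cases hc : IsConj (⟨g₀ * u * g₀⁻¹, mem_of_pairLE hg₀⟩ : P) x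
  · rw [if_pos hc]
    obtain ⟨c, hc'⟩ := isConj_iff.1 hc
    have hcx : (c : G) * (g₀ * u * g₀⁻¹) * (c : G)⁻¹ = x := congrArg Subtype.val hc'
    have hg1 : g₀⁻¹ * (c : G)⁻¹ * (x : G) * (g₀⁻¹ * (c : G)⁻¹)⁻¹ = u := by
      rw [← hcx]; group
    have hb1 : conjA (g₀⁻¹ * (c : G)⁻¹) a = b := by
      have h1 := (pairLE_bx h x).conj (c : G)⁻¹
      rw [conjPair_of_mem h.star.block (P.inv_mem c.2), conjPair_eq_zpowers,
        show ((c : G)⁻¹ * (x : G) * ((c : G)⁻¹)⁻¹) = g₀ * u * g₀⁻¹ by rw [← hcx]; group] at h1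
      have h2 := hg₀
      rw [conjPair_eq_zpowers] at h2
      have h3 := pairLE_unique (hasBlocks hM) (b := (P, eA hM (cz P) e)) h.star.block hP h1 h2
      rw [conjA_mul_left, h3, ← conjA_mul_left, inv_mul_cancel, conjA_one_left]
    rw [Nat.card_eq_fintype_card, ← Finset.card_univ]
    symm
    refine Finset.card_bij (fun d _ => g₀⁻¹ * (c : G)⁻¹ * (d : G)) (fun d _ => ?_)
      (fun d _ d' _ hd => Subtype.ext (mul_left_cancel hd)) fun g hg => ?_
    · refine Finset.mem_filter.2 ⟨Finset.mem_univ _, ?_, ?_⟩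
      · have hd := (commute_of_mem_cz d.2).eq
        calc g₀⁻¹ * (c : G)⁻¹ * (d : G) * (x : G) * (g₀⁻¹ * (c : G)⁻¹ * (d : G))⁻¹
            = g₀⁻¹ * (c : G)⁻¹ * ((d : G) * (x : G)) * (d : G)⁻¹ *
                (g₀⁻¹ * (c : G)⁻¹)⁻¹ := by group
          _ = g₀⁻¹ * (c : G)⁻¹ * (x : G) * (g₀⁻¹ * (c : G)⁻¹)⁻¹ := by rw [← hd]; group
          _ = u := hg1
      · rw [conjA_mul_left, hab.fixed _ d.2, hb1]
    · have hgx := (Finset.mem_filter.1 hg).2.1
      set g1 := g₀⁻¹ * (c : G)⁻¹ with hg1def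
      have h4 : g1⁻¹ * g * (x : G) * (g1⁻¹ * g)⁻¹ = x := by
        calc g1⁻¹ * g * (x : G) * (g1⁻¹ * g)⁻¹ = g1⁻¹ * (g * (x : G) * g⁻¹) * g1 := by group
          _ = g1⁻¹ * (g1 * (x : G) * g1⁻¹) * g1 := by rw [hgx, hg1]
          _ = x := by group
      have hd : g1⁻¹ * g ∈ cz (Subgroup.zpowers (x : G)) := by
        rw [cz_zpowers, Subgroup.mem_centralizer_singleton_iff]
        exact mul_inv_eq_iff_eq_mul.1 h4
      exact ⟨⟨_, hd⟩, Finset.mem_univ _, by simp⟩
  · rw [if_neg hc, Finset.card_eq_zero, Finset.filter_eq_empty_iff]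
    rintro g - ⟨hgx, hgb⟩
    have h1 : PairLE p (conjPair g⁻¹ (Subgroup.zpowers u, b)) (P, eA hM (cz P) e) := by
      rw [← hgx, ← hgb, ← conjPair_eq_zpowers, conjPair_inv_cancel]
      exact pairLE_bx h x
    obtain ⟨s, hs, hse⟩ := h.inner u g₀ g⁻¹ b hg₀ h1
    refine hc (isConj_iff.2 ⟨⟨s, hs⟩, Subtype.ext ?_⟩)
    show s * (g₀ * u * g₀⁻¹) * s⁻¹ = x
    rw [← hse, ← hgx]
    group

/-- The centralisers along a class of `P`. -/
theorem sum_class (x₀ : P) :
    ∑ x : P, (if IsConj x₀ x then (Nat.card (Subgroup.centralizer ({x} : Set P)) : ℂ) else 0) =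
      (Nat.card P : ℂ) := by
  have hidx : ∀ x : P, IsConj x₀ x → (Subgroup.centralizer ({x} : Set P)).index =
      (Subgroup.centralizer ({x₀} : Set P)).index := fun x hx => by
    rw [← natCard_isConj, ← natCard_isConj]
    exact Nat.card_congr (Equiv.subtypeEquivRight fun y =>
      ⟨fun H => hx.trans H, fun H => hx.symm.trans H⟩)
  have hcard : ∀ x : P, IsConj x₀ x → Nat.card (Subgroup.centralizer ({x} : Set P)) =
      Nat.card (Subgroup.centralizer ({x₀} : Set P)) := fun x hx => by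
    have h1 := (Subgroup.centralizer ({x} : Set P)).card_mul_index
    rw [hidx x hx, ← (Subgroup.centralizer ({x₀} : Set P)).card_mul_index] at h1
    exact Nat.eq_of_mul_eq_mul_right (Nat.pos_of_ne_zero Subgroup.index_ne_zero_of_finite) h1
  rw [← Finset.sum_filter, Finset.sum_congr rfl (fun x hx => by rw [hcard x (Finset.mem_filter.1 hx).2]),
    Finset.sum_const, ← Fintype.card_subtype, ← Nat.card_eq_fintype_card, natCard_isConj,
    nsmul_eq_mul, ← Nat.cast_mul, mul_comm, Subgroup.card_mul_index]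

/-- An invariant sum over the pairs of the block is a sum over `P`. -/
theorem sum_pairs (φ : G → MonoidAlgebra (ResK M) G → ℂ)
    (hinv : ∀ (t u : G) (b : MonoidAlgebra (ResK M) G), (∃ k : ℕ, orderOf u = p ^ k) →
      IsBlockIdem (cz (Subgroup.zpowers u)) b → φ (t * u * t⁻¹) (conjA t b) = φ u b)
    (hsupp : ∀ (u : G) (b : MonoidAlgebra (ResK M) G), φ u b ≠ 0 →
      ∃ g, PairLE p (conjPair g (Subgroup.zpowers u, b)) (P, eA hM (cz P) e)) :
    (Nat.card P : ℂ) * ∑ u ∈ pEls p G, ∑ b ∈ blocksAt hM u, φ u b =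
      (Nat.card G : ℂ) * ∑ x : P, (Nat.card (Subgroup.centralizer ({x} : Set P)) : ℂ) *
        (Nat.card (cz (Subgroup.zpowers (x : G))) : ℂ)⁻¹ *
          φ x (eA hM (cz (Subgroup.zpowers (x : G))) (bx h x)) := by
  have := charP_res hM
  set w : P → ℂ := fun x => (Nat.card (Subgroup.centralizer ({x} : Set P)) : ℂ) *
    (Nat.card (cz (Subgroup.zpowers (x : G))) : ℂ)⁻¹ with hw
  set a : ∀ x : P, MonoidAlgebra (ResK M) G := fun x =>
    eA hM (cz (Subgroup.zpowers (x : G))) (bx h x) with ha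
  let Φ : P × G → (_ : G) × MonoidAlgebra (ResK M) G := fun q =>
    ⟨q.2 * (q.1 : G) * q.2⁻¹, conjA q.2 (a q.1)⟩
  set S := (pEls p G).sigma fun u => blocksAt hM u with hS
  have hmaps : ∀ q ∈ (Finset.univ : Finset (P × G)), Φ q ∈ S := fun q _ => by
    refine Finset.mem_sigma.2 ⟨mem_pEls.2 ?_, (mem_blocksAt_iff hM).2 ?_⟩
    · show ∃ k, orderOf (q.2 * (q.1 : G) * q.2⁻¹) = p ^ k
      rw [orderOf_conj']
      exact exists_pow_orderOf h q.1
    · show IsBlockIdem (cz (Subgroup.zpowers (q.2 * (q.1 : G) * q.2⁻¹))) _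
      rw [← map_conj_zpowers, cz_map_conj]
      exact (isBlockIdem_eA hM (isPBlock_bx h q.1)).conjA q.2
  have e1 : ∑ q : P × G, w q.1 * φ (Φ q).1 (Φ q).2 =
      (Nat.card G : ℂ) * ∑ x : P, w x * φ x (a x) := by
    rw [Fintype.sum_prod_type, Finset.mul_sum]
    refine Finset.sum_congr rfl fun x _ => ?_
    rw [Finset.sum_congr rfl (fun g _ => by
        rw [show (Φ (x, g)).1 = g * (x : G) * g⁻¹ from rfl,
          show (Φ (x, g)).2 = conjA g (a x) from rfl,
          hinv g x (a x) (exists_pow_orderOf h x) (isBlockIdem_eA hM (isPBlock_bx h x))] :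
        ∀ g ∈ (Finset.univ : Finset G), w (x, g).1 * φ (Φ (x, g)).1 (Φ (x, g)).2 = w x * φ x (a x)),
      Finset.sum_const, Finset.card_univ, nsmul_eq_mul, Nat.card_eq_fintype_card]
  have e2 : ∑ q : P × G, w q.1 * φ (Φ q).1 (Φ q).2 =
      (Nat.card P : ℂ) * ∑ u ∈ pEls p G, ∑ b ∈ blocksAt hM u, φ u b := by
    rw [Finset.mul_sum, ← Finset.sum_fiberwise_of_maps_to hmaps]
    simp only [Finset.mul_sum]
    rw [hS, Finset.sum_sigma]
    refine Finset.sum_congr rfl fun u _ => Finset.sum_congr rfl fun b _ => ?_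
    rw [Finset.sum_congr rfl (fun q hq => by rw [(Finset.mem_filter.1 hq).2] :
      ∀ q ∈ Finset.univ.filter (fun q : P × G => Φ q = ⟨u, b⟩),
        w q.1 * φ (Φ q).1 (Φ q).2 = w q.1 * φ u b), ← Finset.sum_mul]
    by_cases h0 : φ u b = 0
    · rw [h0, mul_zero, mul_zero]
    congr 1
    obtain ⟨g₀, hg₀⟩ := hsupp u b h0
    rw [Finset.sum_filter, Fintype.sum_prod_type, ← sum_class h ⟨g₀ * u * g₀⁻¹, mem_of_pairLE hg₀⟩]
    refine Finset.sum_congr rfl fun x _ => ?_
    rw [← Finset.sum_filter]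
    simp only [Finset.sum_const, nsmul_eq_mul]
    have hfil : (Finset.univ.filter fun g : G => Φ (x, g) = ⟨u, b⟩) =
        Finset.univ.filter fun g : G => g * (x : G) * g⁻¹ = u ∧ conjA g (a x) = b :=
      Finset.filter_congr fun g _ => by simp [Φ]
    rw [hfil, card_fibre h hg₀ x]
    split_ifs
    · simp only [hw]
      have : (Nat.card (cz (Subgroup.zpowers (x : G))) : ℂ) ≠ 0 :=
        Nat.cast_ne_zero.2 Nat.card_pos.ne'
      field_simp
    · simp
  rw [← e2, e1]

end Pairs

/-- The weight of `x` in the norm of `χ`. -/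
noncomputable def aVal (h : NilCtx hM B P e) (χ : IrrCharacter G) (x : P) : ℂ :=
  (Nat.card (Subgroup.centralizer ({x} : Set P)) : ℂ) *
    (Nat.card (cz (Subgroup.zpowers (x : G))) : ℂ)⁻¹ *
      nrm hM (χ : G → ℂ) (x : G) (eA hM (cz (Subgroup.zpowers (x : G))) (bx h x))

/-- The inner product of two products is a weighted inner product on `P`. -/
theorem classInner_starC (h : NilCtx hM B P e) {f f' : P → ℂ} (hf : IsClassFunction P f)
    (hf' : IsClassFunction P f') {χ : IrrCharacter G} (hχ : χ ∈ B) :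
    classInner (starC hM B P e f (χ : G → ℂ)) (starC hM B P e f' (χ : G → ℂ)) =
      (Nat.card P : ℂ)⁻¹ * ∑ x : P, f x * conj (f' x) * aVal h χ x := by
  have hG : (Nat.card G : ℂ) ≠ 0 := Nat.cast_ne_zero.2 Nat.card_pos.ne'
  have hP : (Nat.card P : ℂ) ≠ 0 := Nat.cast_ne_zero.2 Nat.card_pos.ne'
  have hkey := sum_pairs h
    (fun u b => wC hM P e f u b * conj (wC hM P e f' u b) * nrm hM (χ : G → ℂ) u b)
    (fun t u b hu hb => by
      simp only [wC_conj h hf, wC_conj h hf', nrm_conj (irr_isCharacter χ) hu hb])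
    (fun u b hne => by
      by_contra hcon
      simp only [wC_eq_zero hcon, zero_mul] at hne
      exact hne rfl)
  rw [← sum_starC_mul h f f' hχ] at hkey
  simp only [wC_bx h hf, wC_bx h hf'] at hkey
  rw [classInner]
  apply mul_left_cancel₀ hP
  rw [← mul_assoc, mul_comm (Nat.card P : ℂ), mul_assoc, hkey, ← mul_assoc, inv_mul_cancel₀ hG,
    one_mul, ← mul_assoc, mul_inv_cancel₀ hP, one_mul]
  exact Finset.sum_congr rfl fun x _ => by rw [aVal]; ring

end CfsgLib.NilBlk
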