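import Cfsg.Agent.Lib.NilBlk.Weight

/-!
# The product of a character of the block by a class function of the defect group
-/

set_option autoImplicit false
set_option linter.unusedSectionVars false

namespace CfsgLib.NilBlk

open Cfsg MonoidAlgebra CfsgLib.Blocks CfsgLib.BrauerPairs CfsgLib.BPStar CfsgLib.Characters
open scoped Classical ComplexConjugate

universe u

variable {p : ℕ} [Fact p.Prime] {M : Ideal AlgInt} [M.IsMaximal]
variable {G : Type u} [Group G] [Fintype G]
variable {B : Set (IrrCharacter G)} {P : Subgroup G}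
variable {e : Set (IrrCharacter (Subgroup.centralizer (P : Set G)))} {f : P → ℂ}

/-- The class function `f * χ`. -/
noncomputable def starC (hM : IsPModular p M) (B : Set (IrrCharacter G)) (P : Subgroup G)
    (e : Set (IrrCharacter (Subgroup.centralizer (P : Set G)))) (f : P → ℂ) (χ : G → ℂ)
    (g : G) : ℂ :=
  twistVal hM (wC hM P e f) χ ((exists_isPPart hM.1 g).choose⁻¹ * g) (eG hM B)
    (exists_isPPart hM.1 g).choose

variable {hM : IsPModular p M}

theorem starC_eq (χ : G → ℂ) {u s : G} (hc : Commute u s) (hu : ∃ k : ℕ, orderOf u = p ^ k)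
    (hs : ¬ p ∣ orderOf s) :
    starC hM B P e f χ (u * s) = twistVal hM (wC hM P e f) χ s (eG hM B) u := by
  have h := IsPPart.unique hM.1 (exists_isPPart hM.1 (u * s)).choose_spec (isPPart_mul hc hu hs)
  rw [starC, h, inv_mul_cancel_left]

/-- The value on a section. -/
theorem starC_sec (hB : IsPBlock M B) {χ : IrrCharacter G} (hχ : χ ∈ B) {u : G}
    (hu : ∃ k : ℕ, orderOf u = p ^ k) {s : cz (Subgroup.zpowers u)} (hs : ¬ p ∣ orderOf s) :
    starC hM B P e f (χ : G → ℂ) (u * (s : G)) =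
      ∑ b ∈ blockSets M (cz (Subgroup.zpowers u)),
        wC hM P e f u (eA hM (cz (Subgroup.zpowers u)) b) *
          blockPart b (secFun u (χ : G → ℂ)) s := by
  rw [starC_eq _ (commute_of_mem_cz s.2) hu (by rwa [Subgroup.orderOf_coe]),
    twistVal_eq_sum hM hB hχ hu hs]

/-- The two ideals give the same function. -/
theorem starC_transfer {M' : Ideal AlgInt} [M'.IsMaximal] {hM' : IsPModular p M'}
    (h : NilCtx hM B P e) (h' : NilCtx hM' B P e) (hf : IsClassFunction P f)
    {χ : IrrCharacter G} (hχ : χ ∈ B) :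
    starC hM B P e f (χ : G → ℂ) = starC hM' B P e f (χ : G → ℂ) := by
  funext g
  obtain ⟨u, s, hu, hs, rfl⟩ := exists_sec_decomp hM.1 g
  rw [starC_sec h.star.isPBlockB hχ hu hs, starC_sec h'.star.isPBlockB hχ hu hs,
    blockSets_transfer hM hM']
  exact Finset.sum_congr rfl fun b hb => by rw [wC_transfer h h' hf (mem_blockSets.1 hb)]

/-- Equivariance under all of `G` at the idempotent of the block. -/
theorem twistVal_conj_G [CharP (ResK M) p] {E : MonoidAlgebra (ResK M) G}
    {Λ : G → MonoidAlgebra (ResK M) G → ℂ}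
    (hΛ : ∀ (g u : G) (b : MonoidAlgebra (ResK M) G), Λ (g * u * g⁻¹) (conjA g b) = Λ u b)
    (hEfix : E ∈ fixAlg (ResK M) (⊤ : Subgroup G)) (hEi : IsIdempotentElem E)
    {χ : G → ℂ} (hχ : IsCharacter G χ) {U : Subgroup G}
    (hU : IsPGroup p U) {x : G} (hx : ¬ p ∣ orderOf x) (hxU : x ∈ cz U) {u : G} (hu : u ∈ U)
    (t : G) :
    twistVal hM Λ χ (t * x * t⁻¹) E (t * u * t⁻¹) = twistVal hM Λ χ x E u := by
  have hEA : E ∈ algAt (ResK M) x U := ⟨fixAlg_anti le_top hEfix, fixAlg_anti le_top hEfix⟩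
  have hz : (Subgroup.zpowers u).map (MulAut.conj t).toMonoidHom =
      Subgroup.zpowers (t * u * t⁻¹) := map_conj_zpowers t u
  have hcz : ∀ (g w : G) (b : MonoidAlgebra (ResK M) G),
      IsBlockIdem (cz (Subgroup.zpowers w)) b →
      IsBlockIdem (cz (Subgroup.zpowers (g * w * g⁻¹))) (conjA g b) := fun g w b hb => by
    have := hb.conjA g
    rwa [← cz_map_conj, map_conj_zpowers] at this
  symm
  refine Finset.sum_nbij' (fun b => conjA t b) (fun b => conjA t⁻¹ b)
    (fun b hb => (mem_blocksAt_iff hM).2 (hcz t u b ((mem_blocksAt_iff hM).1 hb)))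
    (fun b hb => (mem_blocksAt_iff hM).2 (by
      have := hcz t⁻¹ _ b ((mem_blocksAt_iff hM).1 hb)
      rwa [show t⁻¹ * (t * u * t⁻¹) * t⁻¹⁻¹ = u by group] at this))
    (fun b _ => by rw [← conjA_mul_left, inv_mul_cancel, conjA_one_left])
    (fun b _ => by rw [← conjA_mul_left, mul_inv_cancel, conjA_one_left]) fun b hb => ?_
  obtain ⟨hc, hi, -⟩ := piece_spec hM hU hxU hu hEA hb
  rw [hΛ, show t * u * t⁻¹ * (t * x * t⁻¹) = t * (u * x) * t⁻¹ by group, ← hz]
  conv_rhs => rw [show E = conjA t E from (hEfix t (Subgroup.mem_top t)).symm]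
  rw [← conjA_brMap, ← conjA_mul, liftVal_conj hM hχ (isPPart_of_mem hU hx hxU hu) (hi hEi) hc t]

theorem isClassFunction_starC (h : NilCtx hM B P e) (hf : IsClassFunction P f)
    {χ : IrrCharacter G} : IsClassFunction G (starC hM B P e f (χ : G → ℂ)) := by
  have := charP_res hM
  intro g t
  obtain ⟨u, s, hu, hs, rfl⟩ := exists_sec_decomp hM.1 g
  have hs' : ¬ p ∣ orderOf (s : G) := by rwa [Subgroup.orderOf_coe]
  have hc := commute_of_mem_cz s.2
  rw [show t * (u * (s : G)) * t⁻¹ = t * u * t⁻¹ * (t * s * t⁻¹) by group,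
    starC_eq _ (show Commute (t * u * t⁻¹) (t * (s : G) * t⁻¹) from
        hc.map (MulAut.conj t).toMonoidHom) (by simpa [orderOf_conj'] using hu)
      (by rwa [orderOf_conj']),
    starC_eq _ hc hu hs']
  have hE := isBlockIdem_eG hM h.star.isPBlockB
  exact twistVal_conj_G (wC_conj h hf) hE.fixed hE.idem (irr_isCharacter χ)
    (BPStar.isPGroup_zpowers hu) hs' s.2 (Subgroup.mem_zpowers u) t

/-- Where the covered weights are all equal to `c` the value is `c` times that of `χ`. -/
theorem starC_of_weight (hB : IsPBlock M B) {χ : IrrCharacter G} (hχ : χ ∈ B) {u : G}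
    (hu : ∃ k : ℕ, orderOf u = p ^ k) {s : cz (Subgroup.zpowers u)} (hs : ¬ p ∣ orderOf s) (c : ℂ)
    (hc : ∀ b : MonoidAlgebra (ResK M) G, IsBlockIdem (cz (Subgroup.zpowers u)) b →
      brMap (ResK M) (Subgroup.zpowers u) (eG hM B) * b = b → wC hM P e f u b = c) :
    starC hM B P e f (χ : G → ℂ) (u * (s : G)) = c * (χ : G → ℂ) (u * (s : G)) := by
  rw [starC_sec hB hχ hu hs]
  have h1 := sum_blockPart hM (isClassFunction_secFun (irr_isClassFunction χ) u) s
  rw [secFun] at h1
  rw [← h1, Finset.mul_sum]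
  refine Finset.sum_congr rfl fun b hb => ?_
  have hb' := mem_blockSets.1 hb
  by_cases hcov : brMap (ResK M) (Subgroup.zpowers u) (eG hM B) *
      eA hM (cz (Subgroup.zpowers u)) b = eA hM (cz (Subgroup.zpowers u)) b
  · rw [hc _ (isBlockIdem_eA hM hb') hcov]
  · have h2 := blockPart_secFun_eq_zero hM hB hχ hu hs hb' hcov
    show _ * blockPart b (fun c : cz (Subgroup.zpowers u) => (χ : G → ℂ) (u * (c : G))) s =
      c * blockPart b (fun c : cz (Subgroup.zpowers u) => (χ : G → ℂ) (u * (c : G))) s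
    rw [show blockPart b (fun c : cz (Subgroup.zpowers u) => (χ : G → ℂ) (u * (c : G))) s = 0
      from h2, mul_zero, mul_zero]

/-- The value on a regular element. -/
theorem starC_regular (h : NilCtx hM B P e) (hf : IsClassFunction P f) {χ : IrrCharacter G}
    (hχ : χ ∈ B) {g : G} (hg : ¬ p ∣ orderOf g) :
    starC hM B P e f (χ : G → ℂ) g = f 1 * (χ : G → ℂ) g := by
  have hmem : g ∈ cz (Subgroup.zpowers (1 : G)) := by
    rw [Subgroup.zpowers_one_eq_bot, cz_bot]; trivial
  have hu : ∃ k : ℕ, orderOf (1 : G) = p ^ k := ⟨0, by simp⟩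
  have key := starC_of_weight (hM := hM) (P := P) (e := e) (f := f) h.star.isPBlockB hχ hu
    (s := ⟨g, hmem⟩) (by rwa [← Subgroup.orderOf_coe]) (f 1) fun b hb hcov => ?_
  · simpa using key
  · obtain ⟨t, ht⟩ := h.star.exists_conj (BPStar.isPGroup_zpowers hu) hb hcov
    rw [wC_eq h hf ht]
    congr 1
    ext
    simp

theorem starC_one (h : NilCtx hM B P e) (hf : IsClassFunction P f) {χ : IrrCharacter G}
    (hχ : χ ∈ B) : starC hM B P e f (χ : G → ℂ) 1 = f 1 * (χ : G → ℂ) 1 :=
  starC_regular h hf hχ (by rw [orderOf_one]; exact hM.1.not_dvd_one)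

/-- The constant function `1` fixes the character. -/
theorem starC_const_one (h : NilCtx hM B P e) {χ : IrrCharacter G} (hχ : χ ∈ B) :
    starC hM B P e (fun _ : P => (1 : ℂ)) (χ : G → ℂ) = (χ : G → ℂ) := by
  funext g
  obtain ⟨u, s, hu, hs, rfl⟩ := exists_sec_decomp hM.1 g
  rw [starC_of_weight h.star.isPBlockB hχ hu hs 1 fun b hb hcov => ?_, one_mul]
  obtain ⟨t, ht⟩ := h.star.exists_conj (BPStar.isPGroup_zpowers hu) hb hcov
  exact wC_eq h (fun _ _ => rfl) ht

/-- The product is linear in the class function. -/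
theorem starC_linear (h : NilCtx hM B P e) {ι : Type*} (S : Finset ι) (c : ι → ℂ)
    (F : ι → P → ℂ) (hF : ∀ i, IsClassFunction P (F i)) {χ : IrrCharacter G} (hχ : χ ∈ B)
    (g : G) :
    starC hM B P e (fun x => ∑ i ∈ S, c i * F i x) (χ : G → ℂ) g =
      ∑ i ∈ S, c i * starC hM B P e (F i) (χ : G → ℂ) g := by
  obtain ⟨u, s, hu, hs, rfl⟩ := exists_sec_decomp hM.1 g
  simp only [starC_sec h.star.isPBlockB hχ hu hs, Finset.mul_sum]
  rw [Finset.sum_comm]
  refine Finset.sum_congr rfl fun b _ => ?_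
  by_cases hex : ∃ g : G, PairLE p (conjPair g (Subgroup.zpowers u,
      eA hM (cz (Subgroup.zpowers u)) b)) (P, eA hM (cz P) e)
  · obtain ⟨g, hg⟩ := hex
    have hsum : IsClassFunction P (fun x => ∑ i ∈ S, c i * F i x) := fun x y =>
      Finset.sum_congr rfl fun i _ => by rw [hF i x y]
    rw [wC_eq h hsum hg, Finset.sum_mul]
    exact Finset.sum_congr rfl fun i _ => by rw [wC_eq h (hF i) hg, mul_assoc]
  · rw [wC_eq_zero hex, zero_mul, Finset.sum_eq_zero]
    intro i _
    rw [wC_eq_zero hex, zero_mul, mul_zero]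

/-- A function vanishing off `1` gives a function vanishing on the singular elements. -/
theorem starC_eq_zero_of_singular (h : NilCtx hM B P e) (hf : IsClassFunction P f)
    (hoff : ∀ x : P, x ≠ 1 → f x = 0) {χ : IrrCharacter G} (hχ : χ ∈ B) {g : G}
    (hg : p ∣ orderOf g) : starC hM B P e f (χ : G → ℂ) g = 0 := by
  obtain ⟨u, s, hu, hs, rfl⟩ := exists_sec_decomp hM.1 g
  have hu1 : u ≠ 1 := by
    rintro rfl
    rw [one_mul, Subgroup.orderOf_coe] at hg
    exact hs hg
  rw [starC_of_weight h.star.isPBlockB hχ hu hs 0 fun b hb hcov => ?_, zero_mul]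
  obtain ⟨t, ht⟩ := h.star.exists_conj (BPStar.isPGroup_zpowers hu) hb hcov
  rw [wC_eq h hf ht]
  refine hoff _ fun h1 => hu1 ?_
  exact conj_eq_one_iff.1 (congrArg Subtype.val h1)

end CfsgLib.NilBlk
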