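import Cfsg.Agent.Lib.BPStar.Integral
import Cfsg.Agent.Lib.Characters.BrauerInduction

/-!
# Twists by a character along each pair: divisibility over `p`-subgroups

As for linear twists, the weighted values on a `p`-subgroup `U` have coefficients divisible by
`|U|`; on a local idempotent the twist is a character of `U`, which is an integral combination of
characters induced from linear ones.
-/

set_option autoImplicit false
set_option linter.unusedSectionVars false

namespace CfsgLib.NilBlk

open Cfsg MonoidAlgebra CfsgLib.Blocks CfsgLib.BrauerPairs CfsgLib.BPStar CfsgLib.Characters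
open scoped Classical ComplexConjugate

universe u

variable {p : ℕ} {M : Ideal AlgInt} [M.IsMaximal] {G : Type u} [Group G] [Fintype G]

/-- A weight on pairs that is a character along each pair over `E`. -/
structure IsTwistC (p : ℕ) {M : Ideal AlgInt} [M.IsMaximal] (E : MonoidAlgebra (ResK M) G)
    (Λ : G → MonoidAlgebra (ResK M) G → ℂ) : Prop where
  eqv : ∀ (g u : G) (b : MonoidAlgebra (ResK M) G), Λ (g * u * g⁻¹) (conjA g b) = Λ u b
  char : ∀ (U : Subgroup G), IsPGroup p U → ∀ f : MonoidAlgebra (ResK M) G,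
    IsBlockIdem (cz U) f → brMap (ResK M) U E * f = f →
    ∃ μ : U → ℂ, IsCharacter U μ ∧ ∀ (u : U) (b : MonoidAlgebra (ResK M) G),
      PairLE p (Subgroup.zpowers (u : G), b) (U, f) → Λ u b = μ u

/-- Over the zero element only the equivariance is left. -/
theorem IsTwistC.isTwist_zero {E : MonoidAlgebra (ResK M) G}
    {Λ : G → MonoidAlgebra (ResK M) G → ℂ} (h : IsTwistC p E Λ) :
    IsTwist p (0 : MonoidAlgebra (ResK M) G) Λ :=
  ⟨h.eqv, fun U _ f hf hcov => absurd (by rw [← hcov, map_zero, zero_mul]) hf.ne_zero⟩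

variable [hp : Fact p.Prime] (hM : IsPModular p M) {χ : G → ℂ}

/-- The local case for a character of the subgroup. -/
theorem sum_local_char (hχ : IsCharacter G χ) {U : Subgroup G} {x : G} (hx : ¬ p ∣ orderOf x)
    (hxU : x ∈ cz U) {μ : U → ℂ} (hμ : IsCharacter U μ) {E₀ : MonoidAlgebra (lRing hM) G}
    (hE₀ : IsIdempotentElem E₀) (hEc : ∀ u : U, Commute (single (u : G) 1) E₀)
    (hEx : Commute (single x 1) E₀) :
    ∑ u : U, μ u * trR hM χ (single ((u : G) * x) 1 * E₀) ∈ multOf hM (Nat.card U) := by
  have hcl : IsClassFunction G χ := isClassFunction_of_isCharacter hχ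
  set F : U → ℂ := fun u => trR hM χ (single ((u : G) * x) 1 * E₀) with hF
  have hFc : IsClassFunction U F := by
    intro u v
    simp only [hF]
    have e : (single (((v * u * v⁻¹ : U) : G) * x) (1 : lRing hM)) * E₀ =
        single (v : G) 1 * (single ((u : G) * x) 1 * E₀) * single ((v : G))⁻¹ 1 := by
      have h2 : Commute (single ((v : G))⁻¹ (1 : lRing hM)) E₀ := hEc v⁻¹
      rw [mul_assoc (single (v : G) 1), mul_assoc (single ((u : G) * x) 1), ← h2.eq, ← mul_assoc,
        ← mul_assoc, single_mul_single, single_mul_single, one_mul, one_mul]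
      congr 2
      rw [Subgroup.coe_mul, Subgroup.coe_mul, Subgroup.coe_inv, mul_assoc _ _ x,
        mem_cz.1 hxU _ (U.inv_mem v.2), mul_assoc, mul_assoc, mul_assoc]
    rw [e, trR_mul_comm hM hcl, ← mul_assoc, single_mul_single, inv_mul_cancel, one_mul,
      ← MonoidAlgebra.one_def, one_mul]
  have key : ∀ f ∈ Brauer.brauerSpan U, MemLocalRing M (classInner F f) := by
    intro f hf
    induction hf using AddSubgroup.closure_induction with
    | mem y hy =>
      obtain ⟨W, q, l, hq, hW, rfl⟩ := hy
      rw [Induction.classInner_indFun_right W _ hFc]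
      set W' := W.map U.subtype with hW'
      let e := W.equivMapOfInjective U.subtype U.subtype_injective
      have hle : W' ≤ U := Subgroup.map_subtype_le W
      obtain ⟨w, hw, hweq⟩ := sum_local_mem hM hχ hx (cz_anti hle hxU)
        (l.comp e.symm.toMonoidHom)⁻¹ hE₀ (fun u => hEc ⟨u, hle u.2⟩) hEx
      rw [classInner, Subgroup.card_map_of_injective U.subtype_injective] at *
      have hs : ∑ v : W, F v * conj (l v : ℂ) = (Nat.card W : ℂ) * w := by
        rw [← hweq]
        refine Fintype.sum_equiv e.toEquiv _ _ fun v => ?_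
        simp only [MulEquiv.toEquiv_eq_coe, EquivLike.coe_coe, MonoidHom.inv_apply,
          MonoidHom.comp_apply, MulEquiv.coe_toMonoidHom, MulEquiv.symm_apply_apply, hF]
        rw [← irr_apply_inv ⟨_, isIrrCharacter_of_hom l⟩, mul_comm]
        simp only [map_inv, Units.val_inv_eq_inv_val]
        rfl
      rw [hs, inv_mul_cancel_left₀ (Nat.cast_ne_zero.2 Nat.card_pos.ne')]
      exact hw
    | zero => simp only [classInner_zero_right]; exact (lRing hM).zero_mem
    | add a b _ _ ha hb => rw [classInner_add_right]; exact (lRing hM).add_mem ha hb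
    | neg a _ ha => rw [classInner_neg_right]; exact (lRing hM).neg_mem ha
  refine ⟨_, key _ (Brauer.character_mem_brauerSpan (isCharacter_conj hμ)), ?_⟩
  rw [classInner, mul_inv_cancel_left₀ (Nat.cast_ne_zero.2 Nat.card_pos.ne')]
  exact Finset.sum_congr rfl fun u _ => by rw [Complex.conj_conj, mul_comm]

variable (Λ : G → MonoidAlgebra (ResK M) G → ℂ)

/-- The main divisibility. -/
theorem sum_twistVal_mem_char [CharP (ResK M) p] (hχ : IsCharacter G χ)
    {E : MonoidAlgebra (ResK M) G} (hEfix : E ∈ fixAlg (ResK M) (⊤ : Subgroup G))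
    (hEi : E * E = E) (hΛ : IsTwistC p E Λ) {x : G} (hx : ¬ p ∣ orderOf x) (U : Subgroup G) (hU : IsPGroup p U)
    (hxU : x ∈ cz U) (α : U →* ℂˣ) {e : MonoidAlgebra (ResK M) G}
    (heA : e ∈ algAt (ResK M) x U) (he : IsIdempotentElem e) (heE : e * E = e) :
    ∑ u : U, (α u : ℂ) * twistVal hM Λ χ x e u ∈ multOf hM (Nat.card U) := by
  classical
  have := isAlgClosed_res hM
  induction hn : Nat.card U using Nat.strong_induction_on generalizing U e with
  | _ n ih =>
  subst hn
  obtain ⟨J, hJ, horth, hsum⟩ := exists_prim_decomp (ResK M)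
    (A := algAt (ResK M) x U) (i := ⟨e, heA⟩) (Subtype.ext he.eq)
  -- the decomposition
  have hdec : ∀ u ∈ U, twistVal hM Λ χ x e u =
      ∑ j ∈ J, twistVal hM Λ χ x (j : MonoidAlgebra (ResK M) G) u := by
    intro u hu
    have key : ∀ t ⊆ J, twistVal hM Λ χ x ((∑ j ∈ t, j : algAt (ResK M) x U) :
        MonoidAlgebra (ResK M) G) u = ∑ j ∈ t, twistVal hM Λ χ x (j : MonoidAlgebra (ResK M) G) u ∧
        IsIdempotentElem (∑ j ∈ t, j : algAt (ResK M) x U) := by
      intro t
      induction t using Finset.induction with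
      | empty =>
        intro _
        refine ⟨?_, by simp [IsIdempotentElem]⟩
        simp only [Finset.sum_empty, ZeroMemClass.coe_zero]
        exact twistVal_of_br_zero hM Λ hχ hU hx hxU hu (map_zero _)
      | insert a t hat iht =>
        intro hts
        obtain ⟨h1, h2⟩ := iht fun y hy => hts (Finset.mem_insert_of_mem hy)
        have haJ := hts (Finset.mem_insert_self a t)
        have o1 : a * ∑ j ∈ t, j = 0 := by
          rw [Finset.mul_sum]
          exact Finset.sum_eq_zero fun y hy => horth a haJ y (hts (Finset.mem_insert_of_mem hy))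
            fun h => hat (h ▸ hy)
        have o2 : (∑ j ∈ t, j) * a = 0 := by
          rw [Finset.sum_mul]
          exact Finset.sum_eq_zero fun y hy => horth y (hts (Finset.mem_insert_of_mem hy)) a haJ
            fun h => hat (h ▸ hy)
        have ha := (hJ a haJ).1.idem
        rw [Finset.sum_insert hat, Finset.sum_insert hat]
        refine ⟨?_, by rw [IsIdempotentElem, add_mul, mul_add, mul_add, o1, o2, ha.eq, h2.eq,
          add_zero, zero_add]⟩
        rw [AddMemClass.coe_add, twistVal_add hM Λ hχ hU hx hxU hu a.2 (∑ j ∈ t, j : algAt (ResK M) x U).2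
          (congrArg Subtype.val ha.eq) (congrArg Subtype.val h2.eq) (congrArg Subtype.val o1)
          (congrArg Subtype.val o2), h1]
    have h := (key J subset_rfl).1
    rwa [hsum] at h
  rw [Finset.sum_congr rfl fun u _ => by rw [hdec u u.2, Finset.mul_sum], Finset.sum_comm]
  refine AddSubgroup.sum_mem _ fun i hi => ?_
  obtain ⟨hiP, -, hie⟩ := hJ i hi
  have hiE : (i : MonoidAlgebra (ResK M) G) * E = i := by
    have h1 : (i : MonoidAlgebra (ResK M) G) * e = i := congrArg Subtype.val hie
    rw [← h1, mul_assoc, heE]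
  by_cases hne : brMap (ResK M) U (i : MonoidAlgebra (ResK M) G) = 0
  · -- a trace from a maximal subgroup
    obtain ⟨W, hWU, hWn, hWp, a, haA, hai⟩ := exists_trace_of_br_zero hx hU hxU hiP hne
    obtain ⟨t, htU, htW⟩ := SetLike.exists_of_lt hWU
    have hWnorm : U ≤ Subgroup.normalizer (W : Set G) :=
      (Subgroup.normal_subgroupOf_iff_le_normalizer hWU.le).1 hWn
    have htn : t ∈ Subgroup.normalizer (W : Set G) := hWnorm htU
    have htx : t * x * t⁻¹ = x := by rw [mem_cz.1 hxU t htU, mul_inv_cancel_right]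
    have hpow : t ^ p ∈ W := by
      have := hWn
      have h1 := Subgroup.pow_index_mem (W.subgroupOf U) ⟨t, htU⟩
      rw [show (W.subgroupOf U).index = p from hWp] at h1
      exact h1
    have hmap : ∀ g : G, g ∈ U → ∀ y ∈ algAt (ResK M) x W,
        conjA g y ∈ algAt (ResK M) x W := by
      intro g hg y hy
      refine ⟨?_, mem_fix_zpowers ?_⟩
      · have h1 := conjA_mem_fixAlg hy.1 g
        rwa [map_conj_eq_self (hWnorm hg)] at h1
      · rw [← conjA_mul_left, ← mem_cz.1 hxU g hg, conjA_mul_left, hy.2 x (Subgroup.mem_zpowers x)]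
    let σ : algAt (ResK M) x W ≃ₐ[ResK M] algAt (ResK M) x W :=
      AlgEquiv.ofAlgHom
        (((conjHom t).comp (algAt (ResK M) x W).val).codRestrict _ fun y => hmap t htU y y.2)
        (((conjHom t⁻¹).comp (algAt (ResK M) x W).val).codRestrict _ fun y =>
          hmap t⁻¹ (U.inv_mem htU) y y.2)
        (AlgHom.ext fun y => Subtype.ext (show conjA t (conjA t⁻¹ (y : MonoidAlgebra (ResK M) G)) = y by
          rw [← conjA_mul_left, mul_inv_cancel, conjA_one_left]))
        (AlgHom.ext fun y => Subtype.ext (show conjA t⁻¹ (conjA t (y : MonoidAlgebra (ResK M) G)) = y by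
          rw [← conjA_mul_left, inv_mul_cancel, conjA_one_left]))
    have hσ : ∀ y : algAt (ResK M) x W, ((σ y : algAt (ResK M) x W) : MonoidAlgebra (ResK M) G) =
        conjA t y := fun y => rfl
    have hiter : ∀ m (y : algAt (ResK M) x W),
        ((((σ : _ → _)^[m]) y : algAt (ResK M) x W) : MonoidAlgebra (ResK M) G) = conjA (t ^ m) y := by
      intro m
      induction m with
      | zero => intro y; simp
      | succ m ihm =>
        intro y
        rw [Function.iterate_succ', Function.comp_apply, hσ, ihm, ← conjA_mul_left, ← pow_succ']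
    have hiW : (i : MonoidAlgebra (ResK M) G) ∈ algAt (ResK M) x W := algAt_anti x hWU.le i.2
    set iW : algAt (ResK M) x W := ⟨i, hiW⟩ with hiW'
    have hii : IsIdempotentElem iW := Subtype.ext (congrArg Subtype.val hiP.idem.eq :)
    -- the trace as a sum over powers of `t`
    have htr : ∑ m ∈ Finset.range p, ((σ : _ → _)^[m]) (⟨a, haA⟩ : algAt (ResK M) x W) = iW := by
      apply Subtype.ext
      rw [AddSubmonoidClass.coe_finsetSum]
      simp only [hiter]
      show _ = (i : MonoidAlgebra (ResK M) G)
      rw [← hai, relTr_eq_sum]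
      have := hWn
      let f : Fin p → U ⧸ W.subgroupOf U := fun m =>
        QuotientGroup.mk ((⟨t, htU⟩ : U) ^ (m : ℕ))
      have hord : orderOf (QuotientGroup.mk (⟨t, htU⟩ : U) : U ⧸ W.subgroupOf U) = p := by
        refine orderOf_eq_prime ?_ fun h => htW (Subgroup.mem_subgroupOf.1 ((QuotientGroup.eq_one_iff (⟨t, htU⟩ : U)).1 h))
        rw [← QuotientGroup.mk_pow, QuotientGroup.eq_one_iff]
        exact hpow
      have hf : Function.Bijective f := by
        refine (Fintype.bijective_iff_injective_and_card f).2 ⟨fun m l h => Fin.ext ?_, ?_⟩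
        · simp only [f, QuotientGroup.mk_pow] at h
          have h' := pow_inj_mod.1 h
          rwa [hord, Nat.mod_eq_of_lt m.2, Nat.mod_eq_of_lt l.2] at h'
        · rw [Fintype.card_fin, ← Nat.card_eq_fintype_card, ← Subgroup.index_eq_card]
          exact hWp.symm
      rw [← Fin.sum_univ_eq_sum_range (fun m => conjA (t ^ m) a)]
      refine Fintype.sum_equiv (Equiv.ofBijective f hf) _ _ fun m => ?_
      rw [Equiv.ofBijective_apply, conjA_out_eq haA.1]
      simp
    -- vanishing off `W`
    have hzero : ∀ u : U, (u : G) ∉ W →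
        twistVal hM Λ χ x (i : MonoidAlgebra (ResK M) G) u = 0 := fun u hu => by
      refine twistVal_of_br_zero hM Λ hχ hU hx hxU u.2 ?_
      rw [← hai]
      refine brMap_relTr_eq_zero (hU.to_le (Subgroup.zpowers_le.2 u.2)) (Subgroup.zpowers_le.2 u.2)
        haA.1 fun g hg hle => hu ?_
      rw [map_conj_eq_self (hWnorm hg)] at hle
      exact hle (Subgroup.mem_zpowers _)
    set αW : W →* ℂˣ := α.comp (Subgroup.inclusion hWU.le)
    let S : algAt (ResK M) x W → ℂ := fun y =>
      ∑ u : W, (αW u : ℂ) * twistVal hM Λ χ x (y : MonoidAlgebra (ResK M) G) u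
    have hSi : ∑ u : U, (α u : ℂ) * twistVal hM Λ χ x (i : MonoidAlgebra (ResK M) G) u = S iW := by
      symm
      refine Fintype.sum_of_injective (Subgroup.inclusion hWU.le)
        (Subgroup.inclusion_injective hWU.le) _ _ (fun u hu => ?_) fun u => rfl
      rw [hzero u fun h => hu ⟨⟨u, h⟩, rfl⟩, mul_zero]
    rw [hSi]
    have hWp' : IsPGroup p W := hU.to_le hWU.le
    have hxW : x ∈ cz W := cz_anti hWU.le hxU
    have hlt : Nat.card W < Nat.card U := lt_of_le_of_ne (Subgroup.card_le_of_le hWU.le)
      fun h => hWU.ne (Subgroup.eq_of_le_of_card_ge hWU.le h.ge)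
    obtain ⟨w, hw, hwS⟩ := exists_nsmul_of_trace (k := ResK M) (p := p) σ
      (fun y => Subtype.ext (by rw [hiter]; exact y.2.1 _ hpow)) hii
      (Subtype.ext (by rw [hσ]; exact i.2.1 t htU)) htr (multOf hM (Nat.card W)) S
      (by
        refine Finset.sum_eq_zero fun u _ => ?_
        rw [twistVal_of_br_zero hM Λ hχ hWp' hx hxW u.2 (by simp), mul_zero])
      (fun e₁ e₂ h1 h2 _ _ _ _ h12 h21 => by
        rw [← Finset.sum_add_distrib]
        refine Finset.sum_congr rfl fun u _ => ?_
        rw [AddMemClass.coe_add, twistVal_add hM Λ hχ hWp' hx hxW u.2 e₁.2 e₂.2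
          (congrArg Subtype.val h1.eq) (congrArg Subtype.val h2.eq) (congrArg Subtype.val h12)
          (congrArg Subtype.val h21), mul_add])
      (fun e₁ e₂ h1 h2 _ _ _ _ h => by
        obtain ⟨a', c', hac, hca⟩ := h
        refine Finset.sum_congr rfl fun u _ => ?_
        rw [twistVal_eqv hM Λ hχ hWp' hx hxW u.2 e₁.2 e₂.2 a'.2 c'.2 (congrArg Subtype.val h1.eq)
          (congrArg Subtype.val h2.eq) (congrArg Subtype.val hac) (congrArg Subtype.val hca)])
      (fun e₁ h1 _ _ => by
        let c : W ≃ W :=
          { toFun := fun u => ⟨t * u * t⁻¹, (Subgroup.mem_normalizer_iff.1 htn u).1 u.2⟩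
            invFun := fun u => ⟨t⁻¹ * u * t, by
              simpa using (Subgroup.mem_normalizer_iff.1 (inv_mem htn) u).1 u.2⟩
            left_inv := fun u => Subtype.ext (by simp [mul_assoc])
            right_inv := fun u => Subtype.ext (by simp [mul_assoc]) }
        refine (Fintype.sum_equiv c _ _ fun u => ?_).symm
        have hα : αW (c u) = αW u := by
          show α _ = α _
          rw [show (Subgroup.inclusion hWU.le (c u)) =
            (⟨t, htU⟩ : U) * Subgroup.inclusion hWU.le u * (⟨t, htU⟩ : U)⁻¹ from Subtype.ext rfl,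
            map_mul, map_mul, map_inv, mul_comm (α ⟨t, htU⟩), mul_inv_cancel_right]
        rw [hα, hσ]
        exact congrArg _ (twistVal_conj hM Λ (E := 0) hΛ.isTwist_zero hχ hWp' hx hxW u.2 e₁.2
          (congrArg Subtype.val h1.eq) htx).symm)
      (fun j hjP hij hji => by
        refine ih _ hlt W hWp' hxW αW j.2 (congrArg Subtype.val hjP.idem.eq) ?_ rfl
        have h1 : (j : MonoidAlgebra (ResK M) G) * i = j := congrArg Subtype.val hji
        rw [← h1, mul_assoc, hiE])
    obtain ⟨v, hv, rfl⟩ := hw
    refine ⟨v, hv, ?_⟩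
    have hcard : Nat.card U = p * Nat.card W := by
      rw [← Subgroup.relIndex_bot_left, ← Subgroup.relIndex_bot_left,
        ← Subgroup.relIndex_mul_relIndex ⊥ W U bot_le hWU.le, hWp, mul_comm]
    rw [hwS, nsmul_eq_mul, hcard, Nat.cast_mul, mul_assoc]
  · -- a local idempotent
    obtain ⟨f, hf, hif⟩ := exists_block_local (hasBlocks hM) hU hxU hiP hne
    have hcov : brMap (ResK M) U E * f = f := by
      have h1 := congrArg (brMap (ResK M) U) hiE
      rw [brMap_mul hU i.2.1 (fixAlg_anti le_top hEfix)] at h1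
      refine (hf.mul_idem (brMap_mem_suppAlg U E)
        (brMap_mem_fixAlg (cz_le_normalizer U) (fixAlg_anti le_top hEfix)) ?_).resolve_left
        fun h0 => hne ?_
      · rw [← brMap_mul hU (fixAlg_anti le_top hEfix) (fixAlg_anti le_top hEfix), hEi]
      · rw [← hif, ← h1, mul_assoc, h0, mul_zero]
    obtain ⟨μ, hμc, hμ⟩ := hΛ.char U hU f hf hcov
    obtain ⟨E₀, hE₀, hE₀r, hE₀c⟩ := exists_idem_lift hM
      (show IsIdempotentElem (i : MonoidAlgebra (ResK M) G) from congrArg Subtype.val hiP.idem.eq)
    have hval : ∀ u : U, twistVal hM Λ χ x (i : MonoidAlgebra (ResK M) G) u =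
        μ u * trR hM χ (single ((u : G) * x) 1 * E₀) := by
      intro u
      have huU : Subgroup.zpowers (u : G) ≤ U := Subgroup.zpowers_le.2 u.2
      obtain ⟨b, hb, hle⟩ := exists_pairLE (hasBlocks hM) huU hU hf
      have hib := brMap_mul_of_pairLE (hasBlocks hM) hx hU hxU hiP hne hf hif hle
      have hbm : b ∈ blocksAt hM (u : G) := (mem_blocksAt_iff hM).2 hb
      rw [twistVal, Finset.sum_eq_single b]
      · rw [hμ u b hle, hib]
        have hpp := isPPart_of_mem hU hx hxU u.2
        have hcomm : Commute (single ((u : G) * x) 1) (i : MonoidAlgebra (ResK M) G) := by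
          refine commute_single_of_conjA ?_
          rw [conjA_mul_left, i.2.2 x (Subgroup.mem_zpowers x), i.2.1 u u.2]
        obtain ⟨hpc, hpi, -⟩ := piece_spec hM hU hxU u.2 i.2 hbm
        rw [hib] at hpc hpi
        rw [liftVal_eq hM hχ hpp (hpi (congrArg Subtype.val hiP.idem.eq)) hpc hE₀ (hE₀c _ hcomm)
          (fun y hy => by rw [hE₀r, coeff_brMap_of_mem _ (by rwa [cz_zpowers])])]
      · intro b' hb' hne'
        rw [← hib, mul_assoc, hb.mul_eq_zero (isBlockIdem_of_mem_blocksAt hM hb') hne'.symm,
          mul_zero, liftVal_zero hM hχ (isPPart_of_mem hU hx hxU u.2), mul_zero]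
      · exact fun h => absurd hbm h
    have key := sum_local_char hM hχ hx hxU
      (isCharacter_mul (isCharacter_of_irr (isIrrCharacter_of_hom α)) hμc) hE₀
      (fun u => hE₀c _ (commute_single_of_conjA (i.2.1 u u.2)))
      (hE₀c _ (commute_single_of_conjA (i.2.2 x (Subgroup.mem_zpowers x))))
    convert key using 1
    refine Finset.sum_congr rfl fun u _ => ?_
    rw [hval, Pi.mul_apply, mul_assoc]

end CfsgLib.NilBlk
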