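import Cfsg.Agent.Lib.NilBlk.Twist
import Cfsg.Agent.Lib.BPStar.Integrality
import Cfsg.Agent.Lib.BrauerPairs.LocalNilpotent

/-!
# Weights from class functions of the defect group of a nilpotent block

For a nilpotent block the pairs `(u, b)` of the block correspond to the classes of the defect group
`P`, so every class function of `P` gives a weight on them.
-/

set_option autoImplicit false
set_option linter.unusedSectionVars false

namespace CfsgLib.NilBlk

open Cfsg MonoidAlgebra CfsgLib.Blocks CfsgLib.BrauerPairs CfsgLib.BPStar CfsgLib.Characters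
open scoped Classical ComplexConjugate

universe u

variable {p : ℕ} [Fact p.Prime] {M : Ideal AlgInt} [M.IsMaximal]
variable {G : Type u} [Group G] [Fintype G]
variable {B : Set (IrrCharacter G)} {P : Subgroup G}
variable {e : Set (IrrCharacter (Subgroup.centralizer (P : Set G)))}

/-- A maximal pair of a block whose cyclic pairs are fused only by `P`. -/
structure NilCtx (hM : IsPModular p M) (B : Set (IrrCharacter G)) (P : Subgroup G)
    (e : Set (IrrCharacter (Subgroup.centralizer (P : Set G)))) : Prop where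
  star : StarCtx hM B P e 1
  inner : ∀ (u g g' : G) (b : MonoidAlgebra (ResK M) G),
    PairLE p (conjPair g (Subgroup.zpowers u, b)) (P, eA hM (cz P) e) →
    PairLE p (conjPair g' (Subgroup.zpowers u, b)) (P, eA hM (cz P) e) →
      ∃ s ∈ P, g' * u * g'⁻¹ = s * (g * u * g⁻¹) * s⁻¹

theorem starCtx_trivial (hM : IsPModular p M) (hmax : IsMaximalBrauerPair p M B P e) :
    StarCtx hM B P e 1 :=
  ⟨hmax, fun u g g' b h1 h2 => by
    simp only [extLam, dif_pos (mem_of_pairLE h1), dif_pos (mem_of_pairLE h2),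
      MonoidHom.one_apply]⟩

/-- A nilpotent block has only inner fusion. -/
theorem nilCtx_of_nilpotent (hM : IsPModular p M) (hnil : IsNilpotentBlock p M B)
    (hmax : IsMaximalBrauerPair p M B P e) : NilCtx hM B P e := by
  obtain ⟨F, hF⟩ := exists_blockFusion hM hmax
  refine ⟨starCtx_trivial hM hmax, fun u g g' b h1 h2 => ?_⟩
  set h := g' * g⁻¹ with hh
  have h2' : PairLE p (conjPair h (conjPair g (Subgroup.zpowers u, b))) (P, eA hM (cz P) e) := by
    rwa [← conjPair_mul, hh, inv_mul_cancel_right]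
  have hmem := mem_hom_of_pairLE hM hF h1 h2'
  rw [inner_of_nilpotent hM hF hnil] at hmem
  obtain ⟨-, s, hs, hse⟩ := hmem
  have hx : g * u * g⁻¹ ∈ (conjPair g (Subgroup.zpowers u, b)).1 :=
    ⟨u, Subgroup.mem_zpowers u, rfl⟩
  refine ⟨s, hs, ?_⟩
  have h3 : h * (g * u * g⁻¹) * h⁻¹ = s * (g * u * g⁻¹) * s⁻¹ := hse ⟨_, hx⟩
  rw [← h3, hh]
  group

variable {hM : IsPModular p M}

theorem NilCtx.transfer {M' : Ideal AlgInt} [M'.IsMaximal] (hM' : IsPModular p M')
    (h : NilCtx hM B P e) : NilCtx hM' B P e := by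
  have hs' := h.star.transfer hM'
  refine ⟨hs', fun u g g' b' h1 h2 => ?_⟩
  obtain ⟨b, hb, rfl⟩ := exists_eA_eq hM' (block_of_conjPair_pairLE hs'.block h1)
  have hb0 := isPBlock_transfer hM' hM hb
  have key : ∀ t : G, PairLE p (conjPair t (Subgroup.zpowers u,
      eA hM' (cz (Subgroup.zpowers u)) b)) (P, eA hM' (cz P) e) →
      PairLE p (conjPair t (Subgroup.zpowers u, eA hM (cz (Subgroup.zpowers u)) b))
        (P, eA hM (cz P) e) := fun t ht => by
    rw [pairLE_conjPair_iff hM hb0 h.star.isPBlock]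
    exact subpairLE_transfer hM' hM ((pairLE_conjPair_iff hM' hb hs'.isPBlock t).1 ht)
  exact h.inner u g g' (eA hM (cz (Subgroup.zpowers u)) b) (key g h1) (key g' h2)

/-- The extension by zero of a function on `P`. -/
noncomputable def extC (f : P → ℂ) (x : G) : ℂ :=
  if h : x ∈ P then f ⟨x, h⟩ else 0

/-- The weight of the pair `(u, b)` for the function `f` on `P`. -/
noncomputable def wC (hM : IsPModular p M) (P : Subgroup G)
    (e : Set (IrrCharacter (Subgroup.centralizer (P : Set G)))) (f : P → ℂ) (u : G)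
    (b : MonoidAlgebra (ResK M) G) : ℂ :=
  if H : ∃ g : G, PairLE p (conjPair g (Subgroup.zpowers u, b)) (P, eA hM (cz P) e) then
    extC f (H.choose * u * H.choose⁻¹) else 0

variable {f : P → ℂ}

theorem wC_eq (h : NilCtx hM B P e) (hf : IsClassFunction P f) {g u : G}
    {b : MonoidAlgebra (ResK M) G}
    (hg : PairLE p (conjPair g (Subgroup.zpowers u, b)) (P, eA hM (cz P) e)) :
    wC hM P e f u b = f ⟨g * u * g⁻¹, mem_of_pairLE hg⟩ := by
  have H : ∃ g : G, PairLE p (conjPair g (Subgroup.zpowers u, b)) (P, eA hM (cz P) e) := ⟨g, hg⟩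
  obtain ⟨s, hs, hse⟩ := h.inner u g H.choose b hg H.choose_spec
  rw [wC, dif_pos H, extC, dif_pos (mem_of_pairLE H.choose_spec),
    show (⟨H.choose * u * H.choose⁻¹, mem_of_pairLE H.choose_spec⟩ : P) =
      ⟨s, hs⟩ * ⟨g * u * g⁻¹, mem_of_pairLE hg⟩ * (⟨s, hs⟩ : P)⁻¹ from Subtype.ext hse]
  exact hf _ _

theorem wC_eq_zero {u : G} {b : MonoidAlgebra (ResK M) G}
    (h : ¬ ∃ g : G, PairLE p (conjPair g (Subgroup.zpowers u, b)) (P, eA hM (cz P) e)) :
    wC hM P e f u b = 0 := by
  rw [wC, dif_neg h]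

theorem wC_conj (h : NilCtx hM B P e) (hf : IsClassFunction P f) (t u : G)
    (b : MonoidAlgebra (ResK M) G) :
    wC hM P e f (t * u * t⁻¹) (conjA t b) = wC hM P e f u b := by
  have key : ∀ g : G, conjPair g (Subgroup.zpowers (t * u * t⁻¹), conjA t b) =
      conjPair (g * t) (Subgroup.zpowers u, b) := fun g => by
    rw [conjPair_mul, conjPair_eq_zpowers t]
  by_cases hex : ∃ g : G, PairLE p (conjPair g (Subgroup.zpowers u, b)) (P, eA hM (cz P) e)
  · obtain ⟨g, hg⟩ := hex
    have hg' : PairLE p (conjPair (g * t⁻¹) (Subgroup.zpowers (t * u * t⁻¹), conjA t b))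
        (P, eA hM (cz P) e) := by
      rwa [key, inv_mul_cancel_right]
    rw [wC_eq h hf hg, wC_eq h hf hg']
    congr 1
    ext
    show g * t⁻¹ * (t * u * t⁻¹) * (g * t⁻¹)⁻¹ = g * u * g⁻¹
    group
  · rw [wC_eq_zero hex, wC_eq_zero]
    rintro ⟨g, hg⟩
    exact hex ⟨g * t, by rwa [← key]⟩

/-- A character of `P` gives a twist by characters. -/
theorem isTwistC_wC (h : NilCtx hM B P e) (hf : IsCharacter P f) :
    IsTwistC p (eG hM B) (wC hM P e f) := by
  have hfc := isClassFunction_of_isCharacter hf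
  refine ⟨fun g u b => wC_conj h hfc g u b, fun U hU c hc hcov => ?_⟩
  obtain ⟨t, ht⟩ := h.star.exists_conj hU hc hcov
  have hle : U.map (MulAut.conj t).toMonoidHom ≤ P := ht.le
  refine ⟨fun v => f ((((MulAut.conj t).toMonoidHom.comp U.subtype).codRestrict P
    fun v => hle ⟨v, v.2, rfl⟩) v), CharGalois.isCharacter_comp hf _, fun v b hb => ?_⟩
  rw [wC_eq h hfc ((hb.conj t).trans ht)]
  rfl

/-- The weights agree for the two ideals. -/
theorem wC_transfer {M' : Ideal AlgInt} [M'.IsMaximal] {hM' : IsPModular p M'}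
    (h : NilCtx hM B P e) (h' : NilCtx hM' B P e) (hf : IsClassFunction P f) {u : G}
    {b : Set (IrrCharacter (cz (Subgroup.zpowers u)))} (hb : IsPBlock M b) :
    wC hM P e f u (eA hM (cz (Subgroup.zpowers u)) b) =
      wC hM' P e f u (eA hM' (cz (Subgroup.zpowers u)) b) := by
  have hb' := isPBlock_transfer hM hM' hb
  have key : ∀ g : G,
      PairLE p (conjPair g (Subgroup.zpowers u, eA hM (cz (Subgroup.zpowers u)) b))
          (P, eA hM (cz P) e) ↔
        PairLE p (conjPair g (Subgroup.zpowers u, eA hM' (cz (Subgroup.zpowers u)) b))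
          (P, eA hM' (cz P) e) := fun g => by
    rw [pairLE_conjPair_iff hM hb h.star.isPBlock, pairLE_conjPair_iff hM' hb' h'.star.isPBlock]
    exact ⟨subpairLE_transfer hM hM', subpairLE_transfer hM' hM⟩
  by_cases hex : ∃ g : G,
      PairLE p (conjPair g (Subgroup.zpowers u, eA hM (cz (Subgroup.zpowers u)) b))
        (P, eA hM (cz P) e)
  · obtain ⟨g, hg⟩ := hex
    rw [wC_eq h hf hg, wC_eq h' hf ((key g).1 hg)]
  · rw [wC_eq_zero hex, wC_eq_zero fun ⟨g, hg⟩ => hex ⟨g, (key g).2 hg⟩]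

end CfsgLib.NilBlk
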